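import Cfsg.Agent.H347.SNX.Steps

/-!
# The scripts of `F₄` and of `²E₆` (helper347, for S3831)
-/

set_option autoImplicit false
set_option linter.unusedSectionVars false

namespace Cfsg.Agent.H347.SNX

/-- the Cartan matrix -/
def AlTw : Fin 4 → Q4
  | 0 => (2, -1, 0, 0)
  | 1 => (-1, 2, -1, 0)
  | 2 => (0, -2, 2, -1)
  | 3 => (0, 0, -1, 2)

/-- the positive roots -/
def LTw : List Q4 :=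
  [(0, 0, 0, 1), (0, 0, 1, 0), (0, 1, 0, 0), (1, 0, 0, 0), (0, 0, 1, 1), (0, 1, 1, 0),
   (1, 1, 0, 0), (0, 1, 1, 1), (0, 1, 2, 0), (1, 1, 1, 0), (0, 1, 2, 1), (1, 1, 1, 1),
   (1, 1, 2, 0), (0, 1, 2, 2), (1, 1, 2, 1), (1, 2, 2, 0), (1, 1, 2, 2), (1, 2, 2, 1),
   (1, 2, 2, 2), (1, 2, 3, 1), (1, 2, 3, 2), (1, 2, 4, 2), (1, 3, 4, 2), (2, 3, 4, 2)]

/-- the script -/
def STw : List St :=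
  [.k1 [] (0, 0, 1, 0) 2,
   .k1 [] (0, 0, 0, 1) 3,
   .k1 [2] (0, 0, 1, 1) 3,
   .k2 [] (0, 1, 0, 0),
   .k2 [2] (0, 1, 2, 0),
   .k2 [2, 3] (0, 1, 2, 2),
   .k1 [1] (0, 1, 1, 0) 2,
   .k1 [2, 1] (0, 1, 1, 1) 3,
   .k1 [2, 1, 2] (0, 1, 2, 1) 3,
   .kC [] (1, 1, 0, 0),
   .kC [2] (1, 1, 2, 0),
   .kC [3, 2] (1, 1, 2, 2),
   .kB [0, 1] (1, 1, 1, 0) (1, 2, 2, 0) (0, 1, 1, 0),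
   .kB [3, 0, 1] (1, 1, 1, 1) (1, 2, 2, 2) (0, 1, 1, 1),
   .kB [3, 0, 1, 2] (1, 1, 2, 1) (1, 2, 4, 2) (0, 1, 2, 1),
   .k1 [2, 1, 2, 0, 1] (1, 2, 2, 1) 3,
   .k1 [2, 1, 2, 0, 1, 2] (1, 2, 3, 1) 3,
   .k1 [2, 1, 2, 0, 1, 2, 3] (1, 2, 3, 2) 3,
   .k2 [2, 3, 1, 2, 0, 1, 2, 0, 1] (1, 3, 4, 2),
   .kC [1, 2, 0, 1, 2, 3, 0, 1, 2] (2, 3, 4, 2)]

/-- the Cartan matrix -/
def AlF : Fin 4 → Q4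
  | 0 => (2, -1, 0, 0)
  | 1 => (-1, 2, -2, 0)
  | 2 => (0, -1, 2, -1)
  | 3 => (0, 0, -1, 2)

/-- the positive roots -/
def LF : List Q4 :=
  [(1, 0, 0, 0), (0, 1, 0, 0), (0, 0, 1, 0), (0, 0, 0, 1), (1, 1, 0, 0), (0, 1, 1, 0),
   (0, 0, 1, 1), (1, 1, 1, 0), (0, 2, 1, 0), (0, 1, 1, 1), (1, 2, 1, 0), (1, 1, 1, 1),
   (0, 2, 1, 1), (2, 2, 1, 0), (1, 2, 1, 1), (0, 2, 2, 1), (2, 2, 1, 1), (1, 2, 2, 1),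
   (2, 2, 2, 1), (1, 3, 2, 1), (2, 3, 2, 1), (2, 4, 2, 1), (2, 4, 3, 1), (2, 4, 3, 2)]

/-- the script -/
def SF : List St :=
  [.k1 [] (0, 1, 0, 0) 1,
   .k1 [] (1, 0, 0, 0) 0,
   .k1 [1] (1, 1, 0, 0) 0,
   .k2 [] (0, 0, 1, 0),
   .k2 [1] (0, 2, 1, 0),
   .k2 [1, 0] (2, 2, 1, 0),
   .k1 [2] (0, 1, 1, 0) 1,
   .k1 [1, 2] (1, 1, 1, 0) 0,
   .k1 [1, 2, 1] (1, 2, 1, 0) 0,
   .kC [] (0, 0, 1, 1),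
   .kC [1] (0, 2, 1, 1),
   .kC [0, 1] (2, 2, 1, 1),
   .kB [3, 2] (0, 1, 1, 1) (0, 2, 2, 1) (0, 1, 1, 0),
   .kB [0, 3, 2] (1, 1, 1, 1) (2, 2, 2, 1) (1, 1, 1, 0),
   .kB [0, 3, 2, 1] (1, 2, 1, 1) (2, 4, 2, 1) (1, 2, 1, 0),
   .k1 [1, 2, 1, 3, 2] (1, 2, 2, 1) 0,
   .k1 [1, 2, 1, 3, 2, 1] (1, 3, 2, 1) 0,
   .k1 [1, 2, 1, 3, 2, 1, 0] (2, 3, 2, 1) 0,
   .k2 [1, 0, 2, 1, 3, 2, 1, 3, 2] (2, 4, 3, 1),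
   .kC [2, 1, 3, 2, 1, 0, 3, 2, 1] (2, 4, 3, 2)]


theorem run_Tw : run AlTw LTw 0 1 2 3 [] STw = true := by decide +kernel

theorem run_F : run AlF LF 3 2 1 0 [] SF = true := by decide +kernel

end Cfsg.Agent.H347.SNX
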