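import Cfsg.Agent.H347.SNX.NoZ
import Cfsg.Agent.H347.SNX.Tabs
import Cfsg.Agent.H544.SNX.TestA
import Cfsg.Agent.H65.Disp.Chev

/-!
# S3831, task T4a: automorphisms of order three of `F₄(3)` (helper347)
-/

set_option autoImplicit false
set_option linter.unusedSectionVars false

namespace Cfsg.Agent.H347.SNX

open CoxeterSystem Cfsg.Agent.ChevalleyStructure.CoxeterGeom Cfsg.Agent.Tits.Roots Cfsg.Agent.Tits.Core
  Cfsg.Agent.Nodes.Reps Cfsg.Agent.Nodes.BNOf Cfsg.Agent.Nodes.StabComb Cfsg.Agent.Nodes.Bruhat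
  Cfsg.Agent.Nodes.LeviDec
open Cfsg.Agent.H122.SNX
open Cfsg.Agent.H880.Six (PS2 Lr3)
open Cfsg.Agent.H459.Rad (PS)
open Cfsg.Lie Cfsg.Agent.ChevalleyStructure.CoxeterGeomTypes Cfsg.Agent.Nodes.RGDChev
open Cfsg.Agent.KFacts.RgdTI (LR)

/-- `PS 2` for inner automorphisms -/
theorem ps2_of_ps {Y : Type*} [Group Y] {v : Y} (hv : PS 2 (MulAut.conj v)) : PS2 v := by
  intro g
  have h1 := hv ![1, g]
  refine H544.SNX.solvable_of_map (MulAut.conj (G := Y)) (fun z hz => ?_) _ ?_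
  · rw [MonoidHom.mem_ker] at hz
    rw [Subgroup.mem_center_iff]
    intro y
    have h2 := DFunLike.congr_fun hz y
    rw [MulAut.conj_apply, MulAut.one_apply] at h2
    exact (mul_inv_eq_iff_eq_mul.1 h2).symm
  · rw [MonoidHom.map_closure, Set.image_pair]
    have h3 : (Set.range fun i : Fin 2 => MulAut.conj ((![1, g] : Fin 2 → Y) i) * MulAut.conj v *
        (MulAut.conj ((![1, g] : Fin 2 → Y) i))⁻¹) = {MulAut.conj v, MulAut.conj (g * v * g⁻¹)} := by
      ext y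
      rw [Set.mem_range, Fin.exists_fin_two]
      simp only [Matrix.cons_val_zero, Matrix.cons_val_one, map_one, one_mul, inv_one, mul_one, map_mul, map_inv,
        Set.mem_insert_iff, Set.mem_singleton_iff]
      exact or_congr eq_comm eq_comm
    rw [h3] at h1
    exact h1

/-- cubes of conjugates -/
theorem cube_conj {Y : Type*} [Group Y] {v : Y} (hv : v ^ 3 = 1) (g : Y) : (g * v * g⁻¹) ^ 3 = 1 := by
  rw [conj_pow, hv, mul_one, mul_inv_cancel]

/-- cubes of inner automorphisms of simple groups -/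
theorem cube_of_conj {Y : Type*} [Group Y] [IsSimpleGroup Y] {g v : Y} (hx : orderOf (MulAut.conj (g * v * g⁻¹)) = 3)
    (hx3 : (MulAut.conj (g * v * g⁻¹)) ^ 3 = 1) : v ^ 3 = 1 := by
  have hZ : Subgroup.center Y = ⊥ := by
    rcases (inferInstance : (Subgroup.center Y).Normal).eq_bot_or_eq_top with h1 | h1
    · exact h1
    · exfalso
      have h2 : MulAut.conj (g * v * g⁻¹) = 1 := by
        ext y
        rw [MulAut.conj_apply, MulAut.one_apply]
        have h3 : y ∈ Subgroup.center Y := by rw [h1]; exact Subgroup.mem_top y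
        rw [Subgroup.mem_center_iff.1 h3 (g * v * g⁻¹), mul_inv_cancel_right]
      rw [h2, orderOf_one] at hx
      omega
  rw [← map_pow] at hx3
  have h1 : (g * v * g⁻¹) ^ 3 ∈ Subgroup.center Y := by
    rw [Subgroup.mem_center_iff]
    intro y
    have h2 := DFunLike.congr_fun hx3 y
    rw [MulAut.conj_apply, MulAut.one_apply] at h2
    exact (mul_inv_eq_iff_eq_mul.1 h2).symm
  rw [hZ, Subgroup.mem_bot, conj_pow] at h1
  have h2 : v ^ 3 = g⁻¹ * (g * v ^ 3 * g⁻¹) * g := by group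
  rw [h2, h1]; group

section gen

variable {I W Y : Type*} [Fintype I] [DecidableEq I] [Group W] [Group Y] {M : CoxeterMatrix I}
  {cs : CoxeterSystem M W} {A : I → I → ℤ} {h : IsCartan M A} {T : Subgroup Y} {n : I → Y}
  {X : (I → ℤ) → Subgroup Y}

/-- the hypotheses of the script from the tests `tA2`, `mvA2` -/
theorem two_mv [Finite W] [Finite Y] (R : RGD cs h 3 T n X) {i j : I} (hij : M i j = 3) (hi : Nat.card (X (sr i)) = 3)
    (hj : Nat.card (X (sr j)) = 3) {v : Y} (hv : v ∈ RGD.Sup X (RGD.Pos cs h)) (hP : PS2 v) :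
    (v ∈ VJ cs h X {i} ∨ v ∈ VJ cs h X {j}) ∧ (v ∉ VJ cs h X {j} →
      ∃ g, g * v * g⁻¹ ∈ RGD.Sup X (RGD.Pos cs h) ∧ g * v * g⁻¹ ∉ VJ cs h X {i}) := by
  have h1 := H544.SNX.tA2 R hij hi hv hP
  refine ⟨h1, fun h2 => ?_⟩
  obtain ⟨g, -, h3, h4⟩ := H544.SNX.mvA2 R (i := j) (j := i) (by rw [M.symmetric]; exact hij) hj (h1.resolve_right h2) h2
  exact ⟨g, VJ_le_U _ h3, h4⟩

end gen

/-- the roots of the second `B₂` test of `F₄` -/
def SB (h : IsCartan CoxeterMatrix.F₄ (cartanOf chevF4 4)) : Set (Fin 4 → ℤ) :=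
  {x | x ∈ RGD.Pos CoxeterMatrix.F₄.toCoxeterSystem h ∧ (x 0 = 0 ∧ x 3 = 0 → x = sr 2 ∨ x = sr 2 + (2 : ℤ) • sr 1)}

variable {Y : Type} [Group Y] {T : Subgroup Y}

/-- **T4a** `F₄(3)` -/
theorem lr3_F4 [Finite Y] [IsSimpleGroup Y] {h : IsCartan CoxeterMatrix.F₄ (cartanOf chevF4 4)} {n : Fin 4 → Y}
    {X : (Fin 4 → ℤ) → Subgroup Y} (R : RGD CoxeterMatrix.F₄.toCoxeterSystem h 3 T n X)
    (hG : GG CoxeterMatrix.F₄.toCoxeterSystem h T X = ⊤) (hc : ∀ i, Nat.card (X (sr i)) = 3)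
    (hLR : LR R (sr 3))
    (hB2 : ∀ v ∈ RGD.Sup X (RGD.Pos CoxeterMatrix.F₄.toCoxeterSystem h), v ^ 3 = 1 → PS2 v →
      v ∈ VJ CoxeterMatrix.F₄.toCoxeterSystem h X {1})
    (hB2' : ∀ v ∈ RGD.Sup X (SB h), v ^ 3 = 1 → PS2 v →
      v ∈ VJ CoxeterMatrix.F₄.toCoxeterSystem h X {2} ∨ v ∈ RGD.Sup X (SB h \ {sr 2 + (2 : ℤ) • sr 1})) :
    Lr3 X 3 := by
  have hp : IsType chevF4 4 CoxeterMatrix.F₄ := by simp [IsType, typeList]
  have hW := finite_W hp CoxeterMatrix.F₄.toCoxeterSystem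
  intro x hx hP _
  have hx3 : x ^ 3 = 1 := by rw [← hx]; exact pow_orderOf_eq_one x
  obtain ⟨g, v, hv, rfl⟩ := H224.SNX.exists_U R hG hc H65.Disp.Chev.ty_F4.sym hx3
  have hPv : PS2 v := by
    have h1 := ps2_conj (ps2_of_ps hP) g⁻¹
    have h2 : g⁻¹ * (g * v * g⁻¹) * g⁻¹⁻¹ = v := by group
    rwa [h2] at h1
  have hv1 : v ≠ 1 := by
    rintro rfl
    rw [mul_one, mul_inv_cancel, map_one, orderOf_one] at hx
    omega
  have hv3 : v ^ 3 = 1 := cube_of_conj hx hx3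
  have B : IsB2 (cartanOf chevF4 4) 2 1 := ⟨by decide, by decide +kernel, by decide +kernel, by decide +kernel,
    by decide +kernel⟩
  have L : LR R (sr 2) := by
    have h1 := hLR.act (CoxeterMatrix.F₄.toCoxeterSystem.wordProd [3, 2])
    rwa [← tf_eL, rep_act tab_F, show act AlF [3, 2] (eL 3) = eL 2 by decide +kernel, tf_eL] at h1
  have hconj : ∀ {v : Y} (g : Y), (v ^ 3 = 1 ∧ PS2 v) → ((g * v * g⁻¹) ^ 3 = 1 ∧ PS2 (g * v * g⁻¹)) :=
    fun g hv => ⟨cube_conj hv.1 g, ps2_conj hv.2 g⟩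
  have hs : ∀ {v : Y}, v ∈ RGD.Sup X (RGD.Pos CoxeterMatrix.F₄.toCoxeterSystem h) → (v ^ 3 = 1 ∧ PS2 v) →
      v ∈ VJ CoxeterMatrix.F₄.toCoxeterSystem h X {1} := fun hv hP => hB2 _ hv hP.1 hP.2
  have H : Hyp R (fun v => v ^ 3 = 1 ∧ PS2 v) 3 2 1 0 := by
    refine ⟨hconj, fun {v} hv hP => ⟨hs hv hP, ?_⟩,
      fun hv hP => (two_mv R (by decide +kernel) (hc _) (hc _) hv hP.2).1,
      fun hv hP => (two_mv R (by decide +kernel) (hc _) (hc _) hv hP.2).2,
      b2_of_test B L hconj hs ?_⟩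
    · by_contra hcon
      obtain ⟨g, -, h3, h4⟩ := H544.SNX.mvA2 R (i := 0) (j := 1) (by decide +kernel) (hc _) (hs hv hP) hcon
      exact h4 (hs (VJ_le_U _ h3) (hconj g hP))
    · intro v hv hP
      have e0 : rt (2 : Fin 4) 1 1 0 = sr 2 := rt_one_zero
      have e2 : rt (2 : Fin 4) 1 1 2 = sr 2 + (2 : ℤ) • sr 1 := by unfold rt; rw [one_smul]
      have h1 : v ∈ RGD.Sup X (SB h) := by
        refine RGD.Sup_mono ?_ hv
        rintro r ((rfl | h1) | ⟨h1, h2, k, hk, h3⟩)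
        · refine ⟨?_, fun _ => Or.inl e0⟩
          rw [e0]; exact ⟨isRoot_sr _ h 2, sr_nonneg 2⟩
        · rw [Set.mem_singleton_iff] at h1
          subst h1
          refine ⟨⟨root_d B, ?_⟩, fun _ => Or.inr e2⟩
          rw [e2]
          exact add_nonneg (sr_nonneg 2) (smul_nonneg (by norm_num) (sr_nonneg 1))
        · refine ⟨⟨h1, h2⟩, ?_⟩
          rintro ⟨h4, h5⟩
          exfalso
          fin_cases k
          · exact absurd h4 h3.ne'
          · exact hk (Or.inr rfl)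
          · exact hk (Or.inl rfl)
          · exact absurd h5 h3.ne'
      rcases hB2' v h1 hP.1 hP.2 with h2 | h2
      · exact Or.inl h2
      · right
        refine RGD.Sup_mono ?_ h2
        rintro r ⟨⟨h3, h4⟩, h5⟩
        by_cases h6 : r 0 = 0 ∧ r 3 = 0
        · rcases h4 h6 with h7 | h7
          · left
            rw [Set.mem_singleton_iff, e0]; exact h7
          · exact absurd h7 h5
        · right
          have n0 : 0 ≤ r 0 := h3.2 0
          have n3 : 0 ≤ r 3 := h3.2 3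
          by_cases h7 : r 0 = 0
          · have h8 : r 3 ≠ 0 := fun h8 => h6 ⟨h7, h8⟩
            exact ⟨h3.1, h3.2, 3, by decide, lt_of_le_of_ne n3 (Ne.symm h8)⟩
          · exact ⟨h3.1, h3.2, 0, by decide, lt_of_le_of_ne n0 (Ne.symm h7)⟩
  obtain ⟨g', h1⟩ := engine tab_F R H (by decide +kernel) (by decide) (by decide) run_F hv ⟨hv3, hPv⟩ hv1
  refine ⟨g * g'⁻¹, _, h1, ?_⟩
  congr 1
  group

end Cfsg.Agent.H347.SNX
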