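import Cfsg.Agent.H347.SNX.Quad

/-!
# Rank two: `x z v'` (helper347, for S3831)
-/

set_option autoImplicit false
set_option linter.unusedSectionVars false

namespace Cfsg.Agent.H347.SNX

open CoxeterSystem Cfsg.Agent.ChevalleyStructure.CoxeterGeom Cfsg.Agent.Tits.Roots Cfsg.Agent.Tits.Core
  Cfsg.Agent.Tits.RootComb Cfsg.Agent.Tits.Exchange Cfsg.Agent.Nodes.Reps Cfsg.Agent.Nodes.BNOf
  Cfsg.Agent.Nodes.StabComb Cfsg.Agent.Nodes.Bruhat Cfsg.Agent.Nodes.OppDec Cfsg.Agent.Nodes.LeviDec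
  Cfsg.Agent.Nodes.Unique Cfsg.Agent.Nodes.Coroot
open Cfsg.Agent.H122.SNX
open Cfsg.Agent.KFacts.RgdTI (LR)
open scoped commutatorElement

variable {I W Y : Type*} [Fintype I] [DecidableEq I] [Group W] [Group Y] {M : CoxeterMatrix I}
  {cs : CoxeterSystem M W} {A : I → I → ℤ} {h : IsCartan M A} {p : ℕ} {T : Subgroup Y} {n : I → Y}
  {X : (I → ℤ) → Subgroup Y} {j s : I}

theorem conj_VJ (R : RGD cs h p T n X) {J : Set I} {w : W} (hw : w ∈ WJ cs J) {k v : Y} (hk : Rp cs R.nsys w k)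
    (hv : v ∈ VJ cs h X J) : k * v * k⁻¹ ∈ VJ cs h X J := by
  refine RGD.Sup_mono ?_ (conj_mem_image R hk (fun x hx => hx.1) hv)
  rintro _ ⟨x, hx, rfl⟩
  exact NotJ.act hw hx

theorem VJ_anti {J K : Set I} (h1 : K ⊆ J) : VJ cs h X J ≤ VJ cs h X K := by
  refine RGD.Sup_mono ?_
  rintro x ⟨a, b, k, hk, c⟩
  exact ⟨a, b, k, fun h2 => hk (h1 h2), c⟩

/-- `X_s ∩ V_s = 1` -/
theorem eq_one_of_mem_VJ (R : RGD cs h p T n X) [Finite W] {u : Y} (h1 : u ∈ X (sr s)) (h2 : u ∈ VJ cs h X {s}) :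
    u = 1 := by
  have h3 : u ∈ RGD.Sup X {(sr s : I → ℤ)} ⊓ RGD.Sup X (NotJ cs h {s}) := ⟨RGD.le_Sup (Set.mem_singleton _) h1, h2⟩
  rw [inf_eq R] at h3
  · have h4 : RGD.Sup X ({(sr s : I → ℤ)} ∩ NotJ cs h {s}) ≤ ⊥ := by
      refine RGD.Sup_le ?_
      rintro z ⟨hz1, hz2⟩
      exact absurd hz1 (mem_notJ_single.1 hz2).2
    exact Subgroup.mem_bot.1 (h4 h3)
  · intro x hx
    rw [Set.mem_singleton_iff] at hx
    rw [hx]; exact ⟨isRoot_sr cs h s, sr_nonneg s⟩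
  · exact fun _ hx => ⟨hx.1, hx.2.1⟩
  · intro x hx y hy z hz
    rw [Set.mem_singleton_iff] at hx hy ⊢
    rw [hx, hy] at hz
    exact btwn_self (isRoot_sr cs h s) hz
  · exact closed_notJ {s}

variable (B : IsB2 A j s) {R : RGD cs h p T n X} [Finite W] (L : LR R (sr j))

include B L

theorem no_z {x z v' : Y} (hx : x ∈ X (rt j s 1 0)) (hx1 : x ≠ 1) (hz : z ∈ X (rt j s 1 2)) (hz1 : z ≠ 1)
    (hv' : v' ∈ VJ cs h X {j, s}) (hb : 3 < Nat.card (X (rt j s 0 1))) (hd : Nat.card (X (rt j s 1 2)) = 3) :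
    ∃ g, g * (x * z * v') * g⁻¹ ∈ RGD.Sup X (RGD.Pos cs h) ∧ g * (x * z * v') * g⁻¹ ∉ VJ cs h X {s} := by
  have nn : ∀ {q r : ℤ}, 0 ≤ q → 0 ≤ r → 0 ≤ rt j s q r := by
    intro q r hq hr k
    unfold rt
    rw [Pi.add_apply, Pi.smul_apply, Pi.smul_apply, smul_eq_mul, smul_eq_mul]
    exact add_nonneg (mul_nonneg hq (sr_nonneg j k)) (mul_nonneg hr (sr_nonneg s k))
  have pb : rt j s 0 1 ∈ RGD.Pos cs h := ⟨root_b B, nn (by decide) (by decide)⟩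
  have pd : rt j s 1 2 ∈ RGD.Pos cs h := ⟨root_d B, nn (by decide) (by decide)⟩
  have ndb : rt j s 1 2 ≠ sr s := by
    rw [← rt_zero_one (j := j)]; exact ne_rt B (by decide)
  obtain ⟨k, hk⟩ := exists_rp cs R.nsys (cs.simple s)
  have hx' : k * x * k⁻¹ ∈ X (rt j s 1 2) := by
    have := R.conj_mem hk (root_a B) hx
    rwa [rep_s B] at this
  have hz' : k * z * k⁻¹ ∈ X (rt j s 1 0) := by
    have := R.conj_mem hk (root_d B) hz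
    rwa [rep_s B] at this
  have hv1 : k * v' * k⁻¹ ∈ VJ cs h X {j, s} := conj_VJ R (simple_mem_WJ cs (Or.inr rfl)) hk hv'
  have ne1 : ∀ {g u : Y}, u ≠ 1 → g * u * g⁻¹ ≠ 1 := by
    intro g u hu e
    apply hu
    have : u = g⁻¹ * (g * u * g⁻¹) * g := by group
    rw [this, e]; group
  have hx1' := ne1 (g := k) hx1
  have hz1' := ne1 (g := k) hz1
  have ek : k * (x * z * v') * k⁻¹ = (k * x * k⁻¹) * (k * z * k⁻¹) * (k * v' * k⁻¹) := by group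
  generalize k * x * k⁻¹ = x₁ at *
  generalize k * z * k⁻¹ = z₁ at *
  generalize k * v' * k⁻¹ = v₁ at *
  obtain ⟨t, ht, y, hy, hy1, e⟩ := quad B L hz' hz1' (inv_mem hx') (fun e => hx1' (inv_eq_one.1 e)) hb hd
  have tU : t ∈ RGD.Sup X (RGD.Pos cs h) := RGD.le_Sup pb ht
  have e2 : t * x₁ * t⁻¹ = x₁ := by
    rw [lr_d B L (root_b B) (by decide) ht hx']; group
  have e3 : z₁ * x₁ = x₁ * z₁ := lr_d B L (root_a B) (by decide) hz' hx'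
  have e4 : y * x₁ = x₁ * y := lr_d B L (root_c B) (by decide) hy hx'
  have hv2 : t * v₁ * t⁻¹ ∈ VJ cs h X {j, s} := (conj_mem_VJ R tU).2 hv1
  have e5 : t * (x₁ * z₁ * v₁) * t⁻¹ = z₁ * y * (t * v₁ * t⁻¹) := by
    calc t * (x₁ * z₁ * v₁) * t⁻¹ = (t * x₁ * t⁻¹) * (t * z₁ * t⁻¹) * (t * v₁ * t⁻¹) := by group
      _ = (x₁ * z₁) * (y * x₁⁻¹) * (t * v₁ * t⁻¹) := by rw [e2, e]; group
      _ = z₁ * (x₁ * y) * x₁⁻¹ * (t * v₁ * t⁻¹) := by rw [← e3]; group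
      _ = _ := by rw [← e4]; group
  generalize t * v₁ * t⁻¹ = v₂ at *
  obtain ⟨k₂, hk₂⟩ := exists_rp cs R.nsys (cs.simple j * cs.simple s)
  have hw2 : cs.simple j * cs.simple s ∈ WJ cs {j, s} :=
    mul_mem (simple_mem_WJ cs (Or.inl rfl)) (simple_mem_WJ cs (Or.inr rfl))
  have hz2 : k₂ * z₁ * k₂⁻¹ ∈ X (rt j s 1 2) := by
    have := R.conj_mem hk₂ (root_a B) hz'
    rwa [rep_mul_apply, rep_s B, rep_j B] at this
  have hy2 : k₂ * y * k₂⁻¹ ∈ X (rt j s 0 1) := by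
    have := R.conj_mem hk₂ (root_c B) hy
    rwa [rep_mul_apply, rep_s B, rep_j B] at this
  have hv3 : k₂ * v₂ * k₂⁻¹ ∈ VJ cs h X {j, s} := conj_VJ R hw2 hk₂ hv2
  have hy1' := ne1 (g := k₂) hy1
  have e6 : (k₂ * t * k) * (x * z * v') * (k₂ * t * k)⁻¹ = (k₂ * z₁ * k₂⁻¹) * (k₂ * y * k₂⁻¹) * (k₂ * v₂ * k₂⁻¹) := by
    calc (k₂ * t * k) * (x * z * v') * (k₂ * t * k)⁻¹ = k₂ * (t * (k * (x * z * v') * k⁻¹) * t⁻¹) * k₂⁻¹ := by group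
      _ = k₂ * (z₁ * y * v₂) * k₂⁻¹ := by rw [ek, e5]
      _ = _ := by group
  refine ⟨k₂ * t * k, ?_, ?_⟩
  · rw [e6]
    exact mul_mem (mul_mem (RGD.le_Sup pd hz2) (RGD.le_Sup pb hy2)) (VJ_le_U _ hv3)
  · rw [e6]
    intro h1
    apply hy1'
    refine eq_one_of_mem_VJ R (by rw [rt_zero_one] at hy2; exact hy2) ?_
    have h2 : (k₂ * z₁ * k₂⁻¹) ∈ VJ cs h X {s} := RGD.le_Sup (mem_notJ_single.2 ⟨pd, ndb⟩) hz2
    have h3 : k₂ * v₂ * k₂⁻¹ ∈ VJ cs h X {s} := VJ_anti (fun x hx => Or.inr hx) hv3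
    have h4 := mul_mem (mul_mem (inv_mem h2) h1) (inv_mem h3)
    have h5 : (k₂ * z₁ * k₂⁻¹)⁻¹ * (k₂ * z₁ * k₂⁻¹ * (k₂ * y * k₂⁻¹) * (k₂ * v₂ * k₂⁻¹)) * (k₂ * v₂ * k₂⁻¹)⁻¹ =
        k₂ * y * k₂⁻¹ := by group
    rwa [h5] at h4

/-- the `B₂` hypothesis of the script if `|X_s| > 3` -/
theorem b2_of_card {P : Y → Prop} (hconj : ∀ {v : Y} (g : Y), P v → P (g * v * g⁻¹))
    (hs : ∀ {v : Y}, v ∈ RGD.Sup X (RGD.Pos cs h) → P v → v ∈ VJ cs h X {s})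
    (hb : 3 < Nat.card (X (rt j s 0 1))) (hd : Nat.card (X (rt j s 1 2)) = 3) {v : Y}
    (hv : v ∈ RGD.Sup X (RGD.Pos cs h)) (hP : P v) (hj : v ∉ VJ cs h X {j}) :
    ∃ t ∈ X (sr s), t * v * t⁻¹ ∈ RGD.Sup X ({sr j} ∪ NotJ cs h {j, s}) := by
  obtain ⟨t, ht, x, hx, hx1, z, hz, v', hv', e⟩ := prep B L (hs hv hP) hj
  refine ⟨t, ht, ?_⟩
  rw [e]
  have hz1 : z = 1 := by
    by_contra hz1
    obtain ⟨g, h1, h2⟩ := no_z B L hx hx1 hz hz1 hv' hb hd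
    apply h2
    refine hs h1 (hconj g ?_)
    rw [← e]
    exact hconj t hP
  rw [hz1, mul_one]
  rw [rt_one_zero] at hx
  exact mul_mem (RGD.le_Sup (Or.inl rfl) hx) (RGD.Sup_mono Set.subset_union_right hv')

/-- the `B₂` hypothesis of the script from the second test -/
theorem b2_of_test {P : Y → Prop} (hconj : ∀ {v : Y} (g : Y), P v → P (g * v * g⁻¹))
    (hs : ∀ {v : Y}, v ∈ RGD.Sup X (RGD.Pos cs h) → P v → v ∈ VJ cs h X {s})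
    (ht : ∀ {v : Y}, v ∈ RGD.Sup X ({rt j s 1 0, rt j s 1 2} ∪ NotJ cs h {j, s}) → P v →
      v ∈ VJ cs h X {j} ∨ v ∈ RGD.Sup X ({rt j s 1 0} ∪ NotJ cs h {j, s})) {v : Y}
    (hv : v ∈ RGD.Sup X (RGD.Pos cs h)) (hP : P v) (hj : v ∉ VJ cs h X {j}) :
    ∃ t ∈ X (sr s), t * v * t⁻¹ ∈ RGD.Sup X ({sr j} ∪ NotJ cs h {j, s}) := by
  obtain ⟨t, ht', x, hx, hx1, z, hz, v', hv', e⟩ := prep B L (hs hv hP) hj
  refine ⟨t, ht', ?_⟩
  have h1 : t * v * t⁻¹ ∈ RGD.Sup X ({rt j s 1 0, rt j s 1 2} ∪ NotJ cs h {j, s}) := by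
    rw [e]
    exact mul_mem (mul_mem (RGD.le_Sup (Or.inl (Or.inl rfl)) hx) (RGD.le_Sup (Or.inl (Or.inr rfl)) hz))
      (RGD.Sup_mono Set.subset_union_right hv')
  rcases ht h1 (hconj t hP) with h2 | h2
  · exfalso
    apply hj
    rwa [conj_mem_VJ R (RGD.le_Sup (show sr s ∈ RGD.Pos cs h from ⟨isRoot_sr cs h s, sr_nonneg s⟩) ht')] at h2
  · rwa [rt_one_zero] at h2

end Cfsg.Agent.H347.SNX
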