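import Cfsg.Agent.H347.SNX.Btwo

/-!
# Rank two: short root groups of order nine (helper347, for S3831)

`quad` : for `1 ≠ x ∈ X_a`, `1 ≠ e ∈ X_d`, `|X_d| = 3 < |X_b|`, there are `t ∈ X_b`, `1 ≠ y ∈ X_c` with `t x t⁻¹ = x y e`;
`no_z` : `x z v'`, `x ∈ X_a`, `z ∈ X_d` not trivial, `v' ∈ V_{js}`, has a conjugate in `U`, not in `V_s`.
-/

set_option autoImplicit false
set_option linter.unusedSectionVars false

namespace Cfsg.Agent.H347.SNX

open CoxeterSystem Cfsg.Agent.ChevalleyStructure.CoxeterGeom Cfsg.Agent.Tits.Roots Cfsg.Agent.Tits.Core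
  Cfsg.Agent.Tits.RootComb Cfsg.Agent.Tits.Exchange Cfsg.Agent.Nodes.Reps Cfsg.Agent.Nodes.BNOf
  Cfsg.Agent.Nodes.StabComb Cfsg.Agent.Nodes.Bruhat Cfsg.Agent.Nodes.OppDec Cfsg.Agent.Nodes.LeviDec
  Cfsg.Agent.Nodes.Unique Cfsg.Agent.Nodes.Coroot
open Cfsg.Agent.H122.SNX
open Cfsg.Agent.KFacts.RgdTI (LR)
open scoped commutatorElement

variable {I W Y : Type*} [Fintype I] [DecidableEq I] [Group W] [Group Y] {M : CoxeterMatrix I}
  {cs : CoxeterSystem M W} {A : I → I → ℤ} {h : IsCartan M A} {p : ℕ} {T : Subgroup Y} {n : I → Y}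
  {X : (I → ℤ) → Subgroup Y} {j s : I} (B : IsB2 A j s) {R : RGD cs h p T n X} [Finite W] (L : LR R (sr j))

/-- groups of order three -/
theorem three_cases {H : Subgroup Y} (hH : Nat.card H = 3) {a b : Y} (ha : a ∈ H) (hb : b ∈ H) (ha1 : a ≠ 1)
    (hb1 : b ≠ 1) : b = a ∨ b = a⁻¹ := by
  classical
  have hF : Finite H := Nat.finite_of_card_ne_zero (by rw [hH]; decide)
  have : Fintype H := Fintype.ofFinite H
  by_contra hcon
  push Not at hcon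
  have h3 : a ^ 3 = 1 := by
    have h1 := pow_card_eq_one' (x := (⟨a, ha⟩ : H))
    rw [hH] at h1
    exact congrArg Subtype.val h1
  have haa : a ≠ a⁻¹ := by
    intro e
    apply ha1
    have h1 : a * a = 1 := by nth_rw 2 [e]; exact mul_inv_cancel a
    have h2 : a ^ 3 = a * (a * a) := by rw [pow_succ, pow_two, mul_assoc]
    rw [h1, mul_one] at h2
    rw [← h2, h3]
  have h4 : ({⟨1, one_mem H⟩, ⟨a, ha⟩, ⟨a⁻¹, inv_mem ha⟩, ⟨b, hb⟩} : Finset H).card ≤ Fintype.card H :=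
    Finset.card_le_univ _
  rw [← Nat.card_eq_fintype_card, hH] at h4
  rw [Finset.card_insert_of_notMem, Finset.card_insert_of_notMem, Finset.card_insert_of_notMem,
    Finset.card_singleton] at h4
  · omega
  · rw [Finset.mem_singleton]
    intro e
    exact hcon.2 (congrArg Subtype.val e).symm
  · rw [Finset.mem_insert, Finset.mem_singleton]
    rintro (e | e)
    · exact haa (congrArg Subtype.val e)
    · exact hcon.1 (congrArg Subtype.val e).symm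
  · rw [Finset.mem_insert, Finset.mem_insert, Finset.mem_singleton]
    rintro (e | e | e)
    · exact ha1 (congrArg Subtype.val e).symm
    · have h5 : (1 : Y) = a⁻¹ := congrArg Subtype.val e
      exact ha1 (inv_eq_one.1 h5.symm)
    · exact hb1 (congrArg Subtype.val e).symm

/-- in a group of order more than three -/
theorem exists_pair {H : Subgroup Y} (hH : 3 < Nat.card H) : ∃ s ∈ H, ∃ t ∈ H, s ≠ 1 ∧ t ≠ 1 ∧ t ≠ s ∧ t ≠ s⁻¹ := by
  classical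
  have hF : Finite H := Nat.finite_of_card_ne_zero (by omega)
  have : Fintype H := Fintype.ofFinite H
  obtain ⟨s, hs⟩ : ∃ s : H, s ∉ ({1} : Finset H) := by
    by_contra hcon
    push Not at hcon
    have h1 : Fintype.card H ≤ ({1} : Finset H).card := Finset.card_le_card fun x _ => hcon x
    rw [← Nat.card_eq_fintype_card, Finset.card_singleton] at h1
    omega
  obtain ⟨t, ht⟩ : ∃ t : H, t ∉ ({1, s, s⁻¹} : Finset H) := by
    by_contra hcon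
    push Not at hcon
    have h1 : Fintype.card H ≤ ({1, s, s⁻¹} : Finset H).card := Finset.card_le_card fun x _ => hcon x
    have h2 : ({1, s, s⁻¹} : Finset H).card ≤ 3 := Finset.card_le_three
    rw [← Nat.card_eq_fintype_card] at h1
    omega
  rw [Finset.mem_singleton] at hs
  rw [Finset.mem_insert, Finset.mem_insert, Finset.mem_singleton] at ht
  push Not at ht
  refine ⟨s, s.2, t, t.2, fun e => hs (Subtype.ext e), fun e => ht.1 (Subtype.ext e), fun e => ht.2.1 (Subtype.ext e),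
    fun e => ht.2.2 (Subtype.ext e)⟩

include B L

/-- the action of `X_b` on `X_a` -/
theorem exists_fQ {t x : Y} (ht : t ∈ X (rt j s 0 1)) (hx : x ∈ X (rt j s 1 0)) :
    ∃ f ∈ X (rt j s 1 1), ∃ Q ∈ X (rt j s 1 2), t * x * t⁻¹ = x * f * Q := by
  have cd : ∀ u ∈ X (rt j s 1 1), ∀ v ∈ X (rt j s 1 2), u * v = v * u := fun u hu v hv =>
    lr_d B L (root_c B) (by decide) hu hv
  obtain ⟨f, hf, Q, hQ, e⟩ := mem_pair cd (comm_ab B R (inv_mem hx) ht)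
  refine ⟨f, hf, Q, hQ, ?_⟩
  rw [mul_assoc x f Q, ← e, commutatorElement_def]; group

theorem fQ_unique {x f f' Q Q' : Y} (hf : f ∈ X (rt j s 1 1)) (hf' : f' ∈ X (rt j s 1 1)) (hQ : Q ∈ X (rt j s 1 2))
    (hQ' : Q' ∈ X (rt j s 1 2)) (e : x * f * Q = x * f' * Q') : f = f' ∧ Q = Q' := by
  have e1 : f'⁻¹ * f = Q' * Q⁻¹ := by
    have e2 : f * Q = f' * Q' := by
      have := congrArg (fun u => x⁻¹ * u) e
      simpa [mul_assoc] using this
    calc f'⁻¹ * f = f'⁻¹ * (f * Q) * Q⁻¹ := by group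
      _ = _ := by rw [e2]; group
  have e3 : f'⁻¹ * f = 1 := by
    refine inf_c B R (mul_mem (inv_mem hf') hf) ?_
    rw [e1]
    exact RGD.le_Sup (Or.inr rfl) (mul_mem hQ' (inv_mem hQ))
  have e4 : f = f' := (inv_mul_eq_one.1 e3).symm
  refine ⟨e4, ?_⟩
  rw [e3] at e1
  exact (mul_inv_eq_one.1 e1.symm).symm

/-- `Q(t) ≠ 1` -/
theorem Q_ne {t x f : Y} (ht : t ∈ X (rt j s 0 1)) (ht1 : t ≠ 1) (hx : x ∈ X (rt j s 1 0)) (hx1 : x ≠ 1)
    (hf : f ∈ X (rt j s 1 1)) (e : t * x * t⁻¹ = x * f) : False := by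
  have := Fintype.ofFinite W
  obtain ⟨u₁, hu₁, u₂, hu₂, w, hw, ew⟩ := Cfsg.Agent.Nodes.Perp.exists_refl_LL R (root_nb B) (b := t)
    (by rw [neg_rt]; simpa using ht) ht1
  have ewa : rep cs h w (rt j s 1 0) = rt j s 1 2 := by
    have e1 : rt j s 0 (-1) = -(sr s) := by
      rw [← rt_zero_one (j := j) (s := s), neg_rt, neg_zero]
    rw [ew, e1, cpr_neg_right cs h _ (isRoot_sr cs h s), cpr_sr, pair_s B]
    unfold rt
    module
  have h1 : (u₁ * t * u₂) * x * (u₁ * t * u₂)⁻¹ ∈ X (rt j s 1 2) := by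
    have h2 := R.conj_mem hw (root_a B) hx
    rwa [ewa] at h2
  have h2 : u₂ * x = x * u₂ := lr_a B L (root_nb B) (by decide) hu₂ hx
  have h3 : u₁ * x = x * u₁ := lr_a B L (root_nb B) (by decide) hu₁ hx
  have h4 : (u₁ * t * u₂) * x * (u₁ * t * u₂)⁻¹ = x * (⁅u₁, f⁆ * f) := by
    calc (u₁ * t * u₂) * x * (u₁ * t * u₂)⁻¹ = u₁ * t * (u₂ * x) * u₂⁻¹ * t⁻¹ * u₁⁻¹ := by group
      _ = u₁ * (t * x * t⁻¹) * u₁⁻¹ := by rw [h2]; group
      _ = (u₁ * x) * f * u₁⁻¹ := by rw [e]; group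
      _ = _ := by rw [h3, commutatorElement_def]; group
  have h5 := comm_nbc B R hu₁ hf
  have h6 : (u₁ * t * u₂) * x * (u₁ * t * u₂)⁻¹ = 1 := by
    refine inf_d B R h1 ?_
    rw [h4]
    exact mul_mem (RGD.le_Sup (Or.inl rfl) hx) (mul_mem (RGD.le_Sup (Or.inl rfl) h5) (RGD.le_Sup (Or.inr rfl) hf))
  apply hx1
  have h7 : x = (u₁ * t * u₂)⁻¹ * ((u₁ * t * u₂) * x * (u₁ * t * u₂)⁻¹) * (u₁ * t * u₂) := by group
  rw [h7, h6]; group

/-- `f(t) ≠ 1` -/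
theorem f_ne {t x Q : Y} (ht : t ∈ X (rt j s 0 1)) (ht1 : t ≠ 1) (hx : x ∈ X (rt j s 1 0)) (hx1 : x ≠ 1)
    (hQ : Q ∈ X (rt j s 1 2)) (e : t * x * t⁻¹ = x * Q) : False := by
  have := Fintype.ofFinite W
  obtain ⟨y₁, hy₁, y₂, hy₂, w, hw, ew⟩ := Cfsg.Agent.Nodes.Perp.exists_refl_LL R (root_na B) (b := x)
    (by rw [neg_rt]; simpa using hx) hx1
  have ewb : rep cs h w (rt j s 0 1) = rt j s 1 1 := by
    have e1 : rt j s (-1) 0 = -(sr j) := by
      rw [← rt_one_zero (j := j) (s := s), neg_rt, neg_zero]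
    rw [ew, e1, cpr_neg_right cs h _ (isRoot_sr cs h j), cpr_sr, pair_j B]
    unfold rt
    module
  have h1 : (y₁ * x * y₂) * t * (y₁ * x * y₂)⁻¹ ∈ X (rt j s 1 1) := by
    have h2 := R.conj_mem hw (root_b B) ht
    rwa [ewb] at h2
  have h2 : t * y₂ = y₂ * t := lr_na B L (root_b B) (by decide) ht hy₂
  have h2' : t * y₁ = y₁ * t := lr_na B L (root_b B) (by decide) ht hy₁
  have h3 : Q * y₁ = y₁ * Q := lr_na B L (root_d B) (by decide) hQ hy₁
  have h4 : x * Q = Q * x := lr_d B L (root_a B) (by decide) hx hQ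
  have h5 : x * t * x⁻¹ = Q⁻¹ * t := by
    have h6 : x * t * x⁻¹ = x * (t * x * t⁻¹)⁻¹ * t := by group
    rw [h6, e, h4]; group
  have h6 : (y₁ * x * y₂) * t * (y₁ * x * y₂)⁻¹ = Q⁻¹ * t := by
    calc (y₁ * x * y₂) * t * (y₁ * x * y₂)⁻¹ = y₁ * x * (y₂ * t) * y₂⁻¹ * x⁻¹ * y₁⁻¹ := by group
      _ = y₁ * (x * t * x⁻¹) * y₁⁻¹ := by rw [← h2]; group
      _ = (Q * y₁⁻¹)⁻¹ * t * y₁⁻¹ := by rw [h5]; group
      _ = (y₁⁻¹ * Q)⁻¹ * t * y₁⁻¹ := by
          have : Q * y₁⁻¹ = y₁⁻¹ * Q := by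
            rw [eq_inv_mul_iff_mul_eq, ← mul_assoc, ← h3, mul_inv_cancel_right]
          rw [this]
      _ = Q⁻¹ * (y₁ * t) * y₁⁻¹ := by group
      _ = _ := by rw [← h2']; group
  have h7 : (y₁ * x * y₂) * t * (y₁ * x * y₂)⁻¹ = 1 := by
    refine inf_c B R h1 ?_
    rw [h6]
    exact mul_mem (RGD.le_Sup (Or.inr rfl) (inv_mem hQ)) (RGD.le_Sup (Or.inl rfl) ht)
  apply ht1
  have h8 : t = (y₁ * x * y₂)⁻¹ * ((y₁ * x * y₂) * t * (y₁ * x * y₂)⁻¹) * (y₁ * x * y₂) := by group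
  rw [h8, h7]; group

/-- the quadratic map takes all nontrivial values -/
theorem quad {x e : Y} (hx : x ∈ X (rt j s 1 0)) (hx1 : x ≠ 1) (he : e ∈ X (rt j s 1 2)) (he1 : e ≠ 1)
    (hb : 3 < Nat.card (X (rt j s 0 1))) (hd : Nat.card (X (rt j s 1 2)) = 3) :
    ∃ t ∈ X (rt j s 0 1), ∃ y ∈ X (rt j s 1 1), y ≠ 1 ∧ t * x * t⁻¹ = x * y * e := by
  by_contra hcon
  push Not at hcon
  have cd : ∀ u ∈ X (rt j s 1 1), ∀ v ∈ X (rt j s 1 2), u * v = v * u := fun u hu v hv =>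
    lr_d B L (root_c B) (by decide) hu hv
  have bd : ∀ u ∈ X (rt j s 0 1), ∀ v ∈ X (rt j s 1 2), u * v = v * u := fun u hu v hv =>
    lr_d B L (root_b B) (by decide) hu hv
  -- all values are `e⁻¹`
  have key : ∀ t ∈ X (rt j s 0 1), t ≠ 1 → ∃ f ∈ X (rt j s 1 1), t * x * t⁻¹ = x * f * e⁻¹ := by
    intro t ht ht1
    obtain ⟨f, hf, Q, hQ, e1⟩ := exists_fQ B L ht hx
    have hQ1 : Q ≠ 1 := by
      rintro rfl
      rw [mul_one] at e1
      exact Q_ne B L ht ht1 hx hx1 hf e1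
    rcases three_cases hd he hQ he1 hQ1 with rfl | rfl
    · exfalso
      refine hcon t ht f hf ?_ e1
      rintro rfl
      rw [mul_one] at e1
      exact f_ne B L ht ht1 hx hx1 hQ e1
    · exact ⟨f, hf, e1⟩
  obtain ⟨s', hs', t, ht, hs1, ht1, hts, hts'⟩ := exists_pair hb
  obtain ⟨f, hf, ef⟩ := key s' hs' hs1
  obtain ⟨f', hf', ef'⟩ := key s'⁻¹ (inv_mem hs') (fun h => hs1 (inv_eq_one.1 h))
  obtain ⟨g, hg, eg⟩ := key t ht ht1
  obtain ⟨k, hk, ek⟩ := key (t * s') (mul_mem ht hs') (fun h => hts' (eq_inv_of_mul_eq_one_left h))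
  obtain ⟨k', hk', ek'⟩ := key (t * s'⁻¹) (mul_mem ht (inv_mem hs')) (fun h => hts (mul_inv_eq_one.1 h))
  have hei := inv_mem he
  have ex : ∀ v ∈ X (rt j s 1 2), x * v = v * x := fun v hv => lr_d B L (root_a B) (by decide) hx hv
  have ac : ∀ u ∈ X (rt j s 1 1), u * x = x * u := fun u hu => lr_a B L (root_c B) (by decide) hu hx
  -- `f' = f⁻¹`
  have e1 : f' = f⁻¹ := by
    obtain ⟨q, hq, e2⟩ : ∃ q ∈ X (rt j s 1 2), s'⁻¹ * f * s' = f * q := by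
      refine ⟨⁅s'⁻¹, f⁻¹⁆⁻¹, inv_mem (comm_bc B R (inv_mem hs') (inv_mem hf)), ?_⟩
      rw [commutatorElement_def]; group
    have e3 : s'⁻¹ * e⁻¹ * s' = e⁻¹ := by rw [bd _ (inv_mem hs') _ hei]; group
    rw [inv_inv] at ef'
    have e4 : x = x * (f' * f) * (e⁻¹ * (q * e⁻¹)) := by
      calc x = s'⁻¹ * (s' * x * s'⁻¹) * s' := by group
        _ = (s'⁻¹ * x * s') * (s'⁻¹ * f * s') * (s'⁻¹ * e⁻¹ * s') := by rw [ef]; group
        _ = x * f' * (e⁻¹ * f) * q * e⁻¹ := by rw [ef', e2, e3]; group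
        _ = x * f' * (f * e⁻¹) * q * e⁻¹ := by rw [cd f hf _ hei]
        _ = _ := by group
    have e5 := fQ_unique (x := x) (f := 1) (f' := f' * f) (Q := 1) (Q' := e⁻¹ * (q * e⁻¹)) B L (one_mem _)
      (mul_mem hf' hf) (one_mem _) (mul_mem hei (mul_mem hq hei)) (by rw [mul_one, mul_one]; exact e4)
    exact (eq_inv_of_mul_eq_one_left e5.1.symm)
  -- the products
  have comp : ∀ {s₀ f k : Y}, s₀ ∈ X (rt j s 0 1) → f ∈ X (rt j s 1 1) → k ∈ X (rt j s 1 1) →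
      s₀ * x * s₀⁻¹ = x * f * e⁻¹ → (t * s₀) * x * (t * s₀)⁻¹ = x * k * e⁻¹ → f⁻¹ * t * f * t⁻¹ = e := by
    intro s₀ f k hs hf hk e1 e2
    have hq : f⁻¹ * t * f * t⁻¹ ∈ X (rt j s 1 2) := by
      have h1 := comm_bc B R ht (inv_mem hf)
      have h2 : f⁻¹ * t * f * t⁻¹ = ⁅t, f⁻¹⁆⁻¹ := by rw [commutatorElement_def]; group
      rw [h2]; exact inv_mem h1
    have e3 : t * e⁻¹ * t⁻¹ = e⁻¹ := by rw [bd t ht _ hei]; group
    have e4 : (t * s₀) * x * (t * s₀)⁻¹ = x * (g * f) * (e⁻¹ * (f⁻¹ * t * f * t⁻¹ * e⁻¹)) := by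
      calc (t * s₀) * x * (t * s₀)⁻¹ = t * (s₀ * x * s₀⁻¹) * t⁻¹ := by group
        _ = (t * x * t⁻¹) * (t * f * t⁻¹) * (t * e⁻¹ * t⁻¹) := by rw [e1]; group
        _ = x * g * (e⁻¹ * f) * (f⁻¹ * t * f * t⁻¹) * e⁻¹ := by rw [eg, e3]; group
        _ = x * g * (f * e⁻¹) * (f⁻¹ * t * f * t⁻¹) * e⁻¹ := by rw [cd f hf _ hei]
        _ = _ := by group
    rw [e4] at e2
    have e5 := (fQ_unique B L (mul_mem hg hf) hk (mul_mem hei (mul_mem hq hei)) hei e2).2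
    have e6 : f⁻¹ * t * f * t⁻¹ * e⁻¹ = 1 := by
      have := congrArg (fun u => e * u) e5
      simpa using this
    exact mul_inv_eq_one.1 e6
  have c1 := comp hs' hf hk ef ek
  have c2 := comp (inv_mem hs') hf' hk' ef' ek'
  rw [e1, inv_inv] at c2
  -- `f t f⁻¹ t⁻¹ = e`, `f⁻¹ t f t⁻¹ = e`
  have hq : t * f * t⁻¹ = f * e := by rw [← c1]; group
  have c3 : f * (t * f * t⁻¹)⁻¹ = e := by rw [← c2]; group
  rw [hq] at c3
  have c4 : f * e = e * f := cd f hf e he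
  have c5 : e⁻¹ = e := by
    rw [c4] at c3
    calc e⁻¹ = f * (e * f)⁻¹ := by group
      _ = e := c3
  have c6 : e ^ 3 = 1 := by
    have h1 := pow_card_eq_one' (x := (⟨e, he⟩ : X (rt j s 1 2)))
    rw [hd] at h1
    exact congrArg Subtype.val h1
  apply he1
  have c7 : e * e = 1 := by nth_rw 1 [← c5]; exact inv_mul_cancel e
  have c8 : e ^ 3 = e * e * e := by rw [pow_succ, pow_two]
  rw [c6, c7, one_mul] at c8
  exact c8.symm

end Cfsg.Agent.H347.SNX
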