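import Cfsg.Agent.H347.SNX.Script

/-!
# The steps of a script (helper347, for S3831)
-/

set_option autoImplicit false
set_option linter.unusedSectionVars false

namespace Cfsg.Agent.H347.SNX

open CoxeterSystem Cfsg.Agent.ChevalleyStructure.CoxeterGeom Cfsg.Agent.Tits.Roots Cfsg.Agent.Tits.Core
  Cfsg.Agent.Tits.RootComb Cfsg.Agent.Tits.Exchange Cfsg.Agent.Nodes.Reps Cfsg.Agent.Nodes.BNOf
  Cfsg.Agent.Nodes.StabComb Cfsg.Agent.Nodes.Bruhat Cfsg.Agent.Nodes.OppDec Cfsg.Agent.Nodes.LeviDec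
  Cfsg.Agent.Nodes.Unique
open Cfsg.Agent.H122.SNX
open scoped commutatorElement

section gen

variable {I W Y : Type*} [Fintype I] [DecidableEq I] [Group W] [Group Y] {M : CoxeterMatrix I}
  {cs : CoxeterSystem M W} {A : I → I → ℤ} {h : IsCartan M A} {p : ℕ} {T : Subgroup Y} {n : I → Y}
  {X : (I → ℤ) → Subgroup Y}

/-- the hypotheses: `i`, `j` long nodes, `s`, `s'` short nodes (`s` is joined to `j`) -/
structure Hyp (R : RGD cs h p T n X) (P : Y → Prop) (i j s s' : I) : Prop where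
  conj : ∀ {v : Y} (g : Y), P v → P (g * v * g⁻¹)
  short : ∀ {v : Y}, v ∈ RGD.Sup X (RGD.Pos cs h) → P v → v ∈ VJ cs h X {s} ∧ v ∈ VJ cs h X {s'}
  two : ∀ {v : Y}, v ∈ RGD.Sup X (RGD.Pos cs h) → P v → v ∈ VJ cs h X {i} ∨ v ∈ VJ cs h X {j}
  mv : ∀ {v : Y}, v ∈ RGD.Sup X (RGD.Pos cs h) → P v → v ∉ VJ cs h X {j} →
    ∃ g, g * v * g⁻¹ ∈ RGD.Sup X (RGD.Pos cs h) ∧ g * v * g⁻¹ ∉ VJ cs h X {i}
  b2 : ∀ {v : Y}, v ∈ RGD.Sup X (RGD.Pos cs h) → P v → v ∉ VJ cs h X {j} →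
    ∃ t ∈ X (sr s), t * v * t⁻¹ ∈ RGD.Sup X ({sr j} ∪ NotJ cs h {j, s})

theorem tr_of [Finite W] (R : RGD cs h p T n X) : Tr R := fun hk hv _ hS hc hkv =>
  Cfsg.Agent.H224.SNX.transport R hk hv hS hc hkv

theorem conj_mem_VJ (R : RGD cs h p T n X) {J : Set I} {t v : Y} (ht : t ∈ RGD.Sup X (RGD.Pos cs h)) :
    t * v * t⁻¹ ∈ VJ cs h X J ↔ v ∈ VJ cs h X J :=
  (Subgroup.mem_normalizer_iff.1 (PJ_le_normalizer_VJ R J (B_le_PJ (RGD.U_le_B ht))) v).symm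

/-- `{α_j} ∪ NotJ J` is closed -/
theorem closed_insert (J : Set I) (j : I) : Closed cs h ({sr j} ∪ NotJ cs h J) := by
  intro x hx y hy z hz
  have h0 : ∀ {x : I → ℤ}, x ∈ ({sr j} ∪ NotJ cs h J : Set (I → ℤ)) → 0 ≤ x := by
    rintro x (h1 | h1)
    · rw [Set.mem_singleton_iff] at h1
      rw [h1]; exact sr_nonneg j
    · exact h1.2.1
  have hz0 : 0 ≤ z := RGD.nonneg_of_btwn (h0 hx) (h0 hy) hz
  rcases hx with hx | hx
  · rcases hy with hy | hy
    · rw [Set.mem_singleton_iff] at hx hy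
      rw [hx, hy] at hz
      exact Or.inl (btwn_self (isRoot_sr cs h j) hz)
    · obtain ⟨g1, g2, k, hk, g3⟩ := hy
      rw [Set.mem_singleton_iff] at hx
      refine Or.inr ⟨hz.1, hz0, k, hk, ?_⟩
      exact btwn_apply_pos hz.symm g3 (by rw [hx]; exact sr_nonneg j k)
  · obtain ⟨g1, g2, k, hk, g3⟩ := hx
    exact Or.inr ⟨hz.1, hz0, k, hk, btwn_apply_pos hz g3 (h0 hy k)⟩

end gen

/-! ### steps -/

/-- a step of a script -/
inductive St
  | k1 (ω : List (Fin 4)) (γ : Q4) (k : Fin 4)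
  | k2 (ω : List (Fin 4)) (γ : Q4)
  | kC (ω : List (Fin 4)) (γ : Q4)
  | kB (ω : List (Fin 4)) (γ γ' δ : Q4)

/-- sums -/
def addQ (x y : Q4) : Q4 := (x.1 + y.1, x.2.1 + y.2.1, x.2.2.1 + y.2.2.1, x.2.2.2 + y.2.2.2)

theorem tf_addQ (x y : Q4) : tf (addQ x y) = tf x + tf y := by
  funext k
  fin_cases k <;> rfl

/-- the check of a step -/
def ok (Al : Fin 4 → Q4) (L : List Q4) (i j s s' : Fin 4) (D : List Q4) : St → Bool
  | .k1 ω γ k => (decide (k = s) || decide (k = s')) && decide (act Al ω γ = eL k) && posD Al L D ω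
  | .k2 ω γ => ((decide (act Al ω (eL i) = eL i) && decide (act Al ω γ = eL j)) ||
      (decide (act Al ω (eL i) = eL j) && decide (act Al ω γ = eL i))) && posD Al L D ω
  | .kC ω γ => decide (act Al ω (eL i) = eL i) && decide (addQ (eL i) (act Al ω (eL j)) = γ) &&
      decide (act Al ω (eL j) ∈ L) && decide (γ ∈ L) && decide (γ ∉ D) && decide (γ ≠ eL i) &&
      clo L D && clo L (eL i :: D) && clo L (γ :: D) && nrm L (γ :: eL i :: D) (act Al ω (eL j)) &&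
      com L (act Al ω (eL j)) γ && com L γ (eL i)
  | .kB ω γ γ' δ => decide (act Al ω (eL i) = eL j) && decide (act Al ω γ = addQ (eL j) (eL s)) &&
      decide (act Al ω γ' = addQ (addQ (eL j) (eL s)) (eL s)) && decide (act Al ω δ = eL s) && decide (δ ∈ L) &&
      posD Al L D ω && clo L D && nrm L D δ

/-- the list of killed roots -/
def nx (D : List Q4) : St → List Q4
  | .k1 _ γ _ => γ :: D
  | .k2 _ γ => γ :: D
  | .kC _ γ => γ :: D
  | .kB _ γ γ' _ => γ :: γ' :: D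

/-- a script -/
def run (Al : Fin 4 → Q4) (L : List Q4) (i j s s' : Fin 4) : List Q4 → List St → Bool
  | D, [] => L.all fun u => decide (u ∈ D) || decide (u = eL i)
  | D, c :: l => ok Al L i j s s' D c && run Al L i j s s' (nx D c) l

section

variable {W : Type*} [Group W] {M : CoxeterMatrix (Fin 4)} {cs : CoxeterSystem M W} {A : Fin 4 → Fin 4 → ℤ}
  {h : IsCartan M A} {Al : Fin 4 → Q4} {L : List Q4} (hT : Tab A Al L)
  {Y : Type*} [Group Y] {p : ℕ} {T : Subgroup Y} {n : Fin 4 → Y} {X : (Fin 4 → ℤ) → Subgroup Y}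
  (R : RGD cs h p T n X) {P : Y → Prop} {i j s s' : Fin 4}

/-- the invariant of the script -/
structure Good (cs : CoxeterSystem M W) (h : IsCartan M A) (X : (Fin 4 → ℤ) → Subgroup Y) (P : Y → Prop) (i : Fin 4)
    (D : List Q4) (v : Y) : Prop where
  mem : v ∈ RGD.Sup X (RGD.Pos cs h)
  hP : P v
  hi : sr i ∈ Sp cs h X v
  dead : ∀ u ∈ D, tf u ∉ Sp cs h X v

theorem Good.sub {D : List Q4} {v : Y} (hG : Good cs h X P i D v) : Sp cs h X v ⊆ Alv cs h D := fun _ hx =>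
  ⟨sp_pos hG.mem hx, fun u hu e => hG.dead u hu (e ▸ hx)⟩

include hT

theorem Good.nn {D : List Q4} {v : Y} (hG : Good cs h X P i D v) {ω : List (Fin 4)} (hc : posD Al L D ω = true) :
    ∀ x ∈ Sp cs h X v, 0 ≤ rep cs h (cs.wordProd ω) x := by
  intro x hx
  obtain ⟨u, hu1, hu2, rfl⟩ := alv_spec hT (hG.sub hx)
  have h1 := List.all_eq_true.1 hc u hu1
  rw [Bool.or_eq_true, decide_eq_true_eq] at h1
  rw [rep_act hT]
  exact nnQ_iff.1 (h1.resolve_left hu2)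

variable (H : Hyp R P i j s s') [Finite W]

include H

theorem good_k1 {D : List Q4} {v : Y} (hG : Good cs h X P i D v) {ω : List (Fin 4)} {γ : Q4} {k : Fin 4}
    (hc : ok Al L i j s s' D (.k1 ω γ k) = true) : Good cs h X P i (γ :: D) v := by
  simp only [ok, Bool.and_eq_true, Bool.or_eq_true, decide_eq_true_eq] at hc
  obtain ⟨⟨h1, h2⟩, h3⟩ := hc
  refine ⟨hG.mem, hG.hP, hG.hi, fun u hu => ?_⟩
  rcases List.mem_cons.1 hu with rfl | hu
  · intro hγ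
    obtain ⟨g, hg⟩ := exists_rp cs R.nsys (cs.wordProd ω)
    have hw := hG.nn hT h3
    have hU := mem_U_of_sp R hg hG.mem hw
    have hS := sp_conj (R := R) (tr_of R) hg hG.mem hw
    have h4 : g * v * g⁻¹ ∈ VJ cs h X {k} := by
      rcases h1 with rfl | rfl
      · exact (H.short hU (H.conj g hG.hP)).1
      · exact (H.short hU (H.conj g hG.hP)).2
    rw [mem_VJ_single R hU, hS] at h4
    exact h4 ⟨_, hγ, by rw [rep_act hT, h2, tf_eL]⟩
  · exact hG.dead u hu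

theorem good_k2 {D : List Q4} {v : Y} (hG : Good cs h X P i D v) {ω : List (Fin 4)} {γ : Q4}
    (hc : ok Al L i j s s' D (.k2 ω γ) = true) : Good cs h X P i (γ :: D) v := by
  simp only [ok, Bool.and_eq_true, Bool.or_eq_true, decide_eq_true_eq] at hc
  obtain ⟨h1, h3⟩ := hc
  refine ⟨hG.mem, hG.hP, hG.hi, fun u hu => ?_⟩
  rcases List.mem_cons.1 hu with rfl | hu
  · intro hγ
    obtain ⟨g, hg⟩ := exists_rp cs R.nsys (cs.wordProd ω)
    have hw := hG.nn hT h3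
    have hU := mem_U_of_sp R hg hG.mem hw
    have hS := sp_conj (R := R) (tr_of R) hg hG.mem hw
    have hi : ∀ {k : Fin 4}, act Al ω (eL i) = eL k → sr k ∈ Sp cs h X (g * v * g⁻¹) := by
      intro k hk
      rw [hS]
      exact ⟨_, hG.hi, by rw [← tf_eL, rep_act hT, hk, tf_eL]⟩
    have hγ' : ∀ {k : Fin 4}, act Al ω u = eL k → sr k ∈ Sp cs h X (g * v * g⁻¹) := by
      intro k hk
      rw [hS]
      exact ⟨_, hγ, by rw [rep_act hT, hk, tf_eL]⟩
    have h4 := H.two hU (H.conj g hG.hP)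
    rw [mem_VJ_single R hU, mem_VJ_single R hU] at h4
    rcases h1 with ⟨e1, e2⟩ | ⟨e1, e2⟩
    · rcases h4 with h4 | h4
      · exact h4 (hi e1)
      · exact h4 (hγ' e2)
    · rcases h4 with h4 | h4
      · exact h4 (hγ' e2)
      · exact h4 (hi e1)
  · exact hG.dead u hu

theorem good_kC [Finite Y] (hij : M i j = 3) {D : List Q4} {v : Y} (hG : Good cs h X P i D v) {ω : List (Fin 4)} {γ : Q4}
    (hc : ok Al L i j s s' D (.kC ω γ) = true) : ∃ g, Good cs h X P i (γ :: D) (g * v * g⁻¹) := by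
  simp only [ok, Bool.and_eq_true, decide_eq_true_eq] at hc
  obtain ⟨⟨⟨⟨⟨⟨⟨⟨⟨⟨⟨e1, e2⟩, hδL⟩, hγL⟩, hγD⟩, hγi⟩, c1⟩, c2⟩, c3⟩, c4⟩, c5⟩, c6⟩ := hc
  have w1 : rep cs h (cs.wordProd ω) (sr i) = sr i := by rw [← tf_eL, rep_act hT, e1]
  have w2 : rep cs h (cs.wordProd ω) (sr j) = tf (act Al ω (eL j)) := by rw [← tf_eL, rep_act hT]
  have w3 : rep cs h (cs.wordProd ω) (sr i + sr j) = tf γ := by rw [map_add, w1, w2, ← e2, tf_addQ, tf_eL]
  generalize act Al ω (eL j) = δ at *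
  have hv : v ∈ RGD.Sup X (Alv cs h D) := RGD.Sup_mono hG.sub (mem_sp R hG.mem)
  have pi : sr i ∈ Alv cs h D := hG.sub hG.hi
  have pγ' : tf γ ∈ RGD.Pos cs h := tf_mem_pos hT hγL
  obtain ⟨x, hx, y, hy, rfl⟩ := (mem_peel R alv_pos (clo_spec hT c1) pi).1 hv
  rw [← tf_eL, alv_diff] at hy
  have pγ : tf γ ∈ Alv cs h (eL i :: D) := by
    refine ⟨pγ', fun u hu e => ?_⟩
    rcases List.mem_cons.1 hu with rfl | hu
    · exact hγi (tf_inj e)
    · exact hγD (tf_inj e ▸ hu)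
  obtain ⟨c, hcγ, z, hz, rfl⟩ := (mem_peel R alv_pos (clo_spec hT c2) pγ).1 hy
  rw [alv_diff] at hz
  have hx1 : x ≠ 1 := by
    rintro rfl
    have h1 := hG.hi
    rw [one_mul] at h1
    exact (sp_subset alv_pos (clo_spec hT c2) hy h1).2 (eL i) List.mem_cons_self (tf_eL i).symm
  obtain ⟨t, ht, e⟩ := Cfsg.Agent.H224.SNX.surj R hij (cs.wordProd ω) (x := x) (by rw [w1]; exact hx) hx1 (s := c⁻¹)
    (by rw [w3]; exact inv_mem hcγ)
  rw [w2] at ht
  have pδ : tf δ ∈ RGD.Pos cs h := tf_mem_pos hT hδL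
  have tU : t ∈ RGD.Sup X (RGD.Pos cs h) := RGD.le_Sup pδ ht
  have hzt : t * z * t⁻¹ ∈ RGD.Sup X (Alv cs h (γ :: eL i :: D)) :=
    (Subgroup.mem_normalizer_iff.1 (nrm_spec hT R hδL c4 ht) z).1 hz
  have tc : t * c = c * t := com_spec hT R hδL hγL c5 ht hcγ
  have xc : c * x = x * c := com_spec hT R hγL (hT.base i) c6 hcγ (by rw [tf_eL]; exact hx)
  have e3 : t * x * t⁻¹ = c⁻¹ * x := by
    rw [commutatorElement_def] at e
    rw [← e]; group
  have e4 : t * (x * (c * z)) * t⁻¹ = x * (t * z * t⁻¹) := by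
    have h1 : t * (x * (c * z)) * t⁻¹ = (t * x * t⁻¹) * (t * c) * t⁻¹ * (t * z * t⁻¹) := by group
    rw [h1, tc, e3]
    have h2 : c⁻¹ * x * (c * t) * t⁻¹ * (t * z * t⁻¹) = c⁻¹ * (x * c) * (t * z * t⁻¹) := by group
    rw [h2, ← xc]
    group
  have pi' : sr i ∈ Alv cs h (γ :: D) := by
    refine ⟨pi.1, fun u hu e => ?_⟩
    rcases List.mem_cons.1 hu with rfl | hu
    · rw [← tf_eL] at e
      exact hγi (tf_inj e).symm
    · exact pi.2 u hu e
  have hsub : Alv cs h (γ :: eL i :: D) ⊆ Alv cs h (γ :: D) := by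
    intro r hr
    refine ⟨hr.1, fun u hu => hr.2 u ?_⟩
    rcases List.mem_cons.1 hu with rfl | hu
    · exact List.mem_cons_self
    · exact List.mem_cons_of_mem _ (List.mem_cons_of_mem _ hu)
  have hmem : t * (x * (c * z)) * t⁻¹ ∈ RGD.Sup X (Alv cs h (γ :: D)) := by
    rw [e4]
    exact mul_mem (RGD.le_Sup pi' hx) (RGD.Sup_mono hsub hzt)
  have hU : t * (x * (c * z)) * t⁻¹ ∈ RGD.Sup X (RGD.Pos cs h) := RGD.Sup_mono alv_pos hmem
  refine ⟨t, hU, H.conj t hG.hP, ?_, fun u hu hs => ?_⟩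
  · by_contra hcon
    rw [← mem_VJ_single R hU, conj_mem_VJ R tU, mem_VJ_single R hG.mem] at hcon
    exact hcon hG.hi
  · exact (sp_subset alv_pos (clo_spec hT c3) hmem hs).2 u hu rfl

theorem good_kB {D : List Q4} {v : Y} (hG : Good cs h X P i D v) {ω : List (Fin 4)} {γ γ' δ : Q4} (hjs : j ≠ s)
    (hc : ok Al L i j s s' D (.kB ω γ γ' δ) = true) : ∃ g, Good cs h X P i (γ :: γ' :: D) (g * v * g⁻¹) := by
  simp only [ok, Bool.and_eq_true, decide_eq_true_eq] at hc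
  obtain ⟨⟨⟨⟨⟨⟨⟨e1, e2⟩, e3⟩, e4⟩, hδL⟩, c1⟩, c2⟩, c3⟩ := hc
  have w1 : rep cs h (cs.wordProd ω) (sr i) = sr j := by rw [← tf_eL, rep_act hT, e1, tf_eL]
  have w2 : rep cs h (cs.wordProd ω) (tf γ) = sr j + sr s := by rw [rep_act hT, e2, tf_addQ, tf_eL, tf_eL]
  have w3 : rep cs h (cs.wordProd ω) (tf γ') = sr j + sr s + sr s := by
    rw [rep_act hT, e3, tf_addQ, tf_addQ, tf_eL, tf_eL]
  have w4 : rep cs h (cs.wordProd ω) (tf δ) = sr s := by rw [rep_act hT, e4, tf_eL]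
  obtain ⟨k, hk⟩ := exists_rp cs R.nsys (cs.wordProd ω)
  have hw := hG.nn hT c1
  have hU := mem_U_of_sp R hk hG.mem hw
  have hS := sp_conj (R := R) (tr_of R) hk hG.mem hw
  have hj : k * v * k⁻¹ ∉ VJ cs h X {j} := by
    rw [mem_VJ_single R hU, hS, not_not]
    exact ⟨_, hG.hi, w1⟩
  obtain ⟨t₁, ht₁, e⟩ := H.b2 hU (H.conj k hG.hP) hj
  have pδ : tf δ ∈ RGD.Pos cs h := tf_mem_pos hT hδL
  have ht : k⁻¹ * t₁ * k ∈ X (tf δ) := by
    have h1 := R.conj_mem' hk (isRoot_sr cs h s) ht₁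
    rwa [← w4, rep_inv_apply] at h1
  generalize htd : k⁻¹ * t₁ * k = t at ht
  have tU : t ∈ RGD.Sup X (RGD.Pos cs h) := RGD.le_Sup pδ ht
  have hv : v ∈ RGD.Sup X (Alv cs h D) := RGD.Sup_mono hG.sub (mem_sp R hG.mem)
  have hmem : t * v * t⁻¹ ∈ RGD.Sup X (Alv cs h D) :=
    (Subgroup.mem_normalizer_iff.1 (nrm_spec hT R hδL c3 ht) v).1 hv
  have hU2 : t * v * t⁻¹ ∈ RGD.Sup X (RGD.Pos cs h) := RGD.Sup_mono alv_pos hmem
  have hsub : Sp cs h X (t * v * t⁻¹) ⊆ Alv cs h D := sp_subset alv_pos (clo_spec hT c2) hmem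
  have hw2 : ∀ x ∈ Sp cs h X (t * v * t⁻¹), 0 ≤ rep cs h (cs.wordProd ω) x := by
    intro x hx
    obtain ⟨u, hu1, hu2, rfl⟩ := alv_spec hT (hsub hx)
    have h1 := List.all_eq_true.1 c1 u hu1
    rw [Bool.or_eq_true, decide_eq_true_eq] at h1
    rw [rep_act hT]
    exact nnQ_iff.1 (h1.resolve_left hu2)
  have hS2 := sp_conj (R := R) (tr_of R) hk hU2 hw2
  have e5 : k * (t * v * t⁻¹) * k⁻¹ = t₁ * (k * v * k⁻¹) * t₁⁻¹ := by rw [← htd]; group
  have hm3 : k * (t * v * t⁻¹) * k⁻¹ ∈ RGD.Sup X ({sr j} ∪ NotJ cs h {j, s}) := by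
    rw [e5]; exact e
  have hpos3 : ({sr j} ∪ NotJ cs h {j, s} : Set (Fin 4 → ℤ)) ⊆ RGD.Pos cs h := by
    rintro r (h1 | h1)
    · rw [Set.mem_singleton_iff] at h1
      rw [h1]; exact ⟨isRoot_sr cs h j, sr_nonneg j⟩
    · exact ⟨h1.1, h1.2.1⟩
  have hsub3 := sp_subset hpos3 (closed_insert {j, s} j) hm3
  rw [hS2] at hsub3
  have hsj : (sr s : Fin 4 → ℤ) j = 0 := sr_ne hjs
  have hjs' : (sr j : Fin 4 → ℤ) s = 0 := sr_ne hjs.symm
  have key : ∀ {m : ℤ} {r : Fin 4 → ℤ}, r ∈ ({sr j} ∪ NotJ cs h {j, s} : Set (Fin 4 → ℤ)) → 0 < m →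
      r = sr j + m • sr s → False := by
    rintro m r (h1 | h1) hm he
    · rw [Set.mem_singleton_iff] at h1
      have h2 := congrFun (h1.symm.trans he) s
      rw [Pi.add_apply, Pi.smul_apply, sr_self, hjs', smul_eq_mul] at h2
      omega
    · obtain ⟨-, -, l, hl, h2⟩ := h1
      have l1 : l ≠ j := fun e => hl (Or.inl e)
      have l2 : l ≠ s := fun e => hl (Or.inr e)
      rw [he, Pi.add_apply, Pi.smul_apply, sr_ne l1, sr_ne l2, smul_zero, add_zero] at h2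
      exact absurd h2 (lt_irrefl _)
  refine ⟨t, hU2, H.conj t hG.hP, ?_, fun u hu hs => ?_⟩
  · by_contra hcon
    rw [← mem_VJ_single R hU2, conj_mem_VJ R tU, mem_VJ_single R hG.mem] at hcon
    exact hcon hG.hi
  · rcases List.mem_cons.1 hu with rfl | hu
    · exact key (m := 1) (hsub3 ⟨_, hs, rfl⟩) one_pos (by rw [w2, one_smul])
    · rcases List.mem_cons.1 hu with rfl | hu
      · refine key (m := 2) (hsub3 ⟨_, hs, rfl⟩) two_pos (by rw [w3, two_smul, add_assoc])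
      · exact (hsub hs).2 u hu rfl

/-- the soundness of scripts -/
theorem good_run [Finite Y] (hij : M i j = 3) (hjs : j ≠ s) {l : List St} : ∀ {D : List Q4} {v : Y},
    Good cs h X P i D v → run Al L i j s s' D l = true → ∃ g, g * v * g⁻¹ ∈ X (sr i) := by
  induction l with
  | nil =>
    intro D v hG hr
    refine ⟨1, ?_⟩
    rw [one_mul, inv_one, mul_one]
    have h1 : v ∈ RGD.Sup X {(sr i : Fin 4 → ℤ)} := by
      refine RGD.Sup_mono (fun x hx => ?_) (mem_sp R hG.mem)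
      obtain ⟨u, hu1, hu2, rfl⟩ := alv_spec hT (hG.sub hx)
      have h1 := List.all_eq_true.1 hr u hu1
      rw [Bool.or_eq_true, decide_eq_true_eq, decide_eq_true_eq] at h1
      rw [h1.resolve_left hu2, tf_eL]
      rfl
    exact RGD.Sup_le (S := {(sr i : Fin 4 → ℤ)}) (fun z hz => by rw [Set.mem_singleton_iff.1 hz]) h1
  | cons c l ih =>
    intro D v hG hr
    rw [run, Bool.and_eq_true] at hr
    obtain ⟨h1, h2⟩ := hr
    cases c with
    | k1 ω γ k => exact ih (good_k1 hT R H hG h1) h2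
    | k2 ω γ => exact ih (good_k2 hT R H hG h1) h2
    | kC ω γ =>
      obtain ⟨g, hg⟩ := good_kC hT R H hij hG h1
      obtain ⟨g', hg'⟩ := ih hg h2
      refine ⟨g' * g, ?_⟩
      have e : g' * g * v * (g' * g)⁻¹ = g' * (g * v * g⁻¹) * g'⁻¹ := by group
      rw [e]; exact hg'
    | kB ω γ γ' δ =>
      obtain ⟨g, hg⟩ := good_kB hT R H hG hjs h1
      obtain ⟨g', hg'⟩ := ih hg h2
      refine ⟨g' * g, ?_⟩
      have e : g' * g * v * (g' * g)⁻¹ = g' * (g * v * g⁻¹) * g'⁻¹ := by group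
      rw [e]; exact hg'

/-- **the engine** -/
theorem engine [Finite Y] (hij : M i j = 3) (hjs : j ≠ s) (hall : ∀ k, k = i ∨ k = j ∨ k = s ∨ k = s') {l : List St}
    (hr : run Al L i j s s' [] l = true) {v : Y} (hv : v ∈ RGD.Sup X (RGD.Pos cs h)) (hP : P v) (hv1 : v ≠ 1) :
    ∃ g, g * v * g⁻¹ ∈ X (sr i) := by
  have h0 : v ∉ VJ cs h X Set.univ := by
    intro h1
    have h2 : VJ cs h X Set.univ ≤ ⊥ := by
      refine RGD.Sup_le fun z hz => ?_
      obtain ⟨-, -, k, hk, -⟩ := hz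
      exact absurd (Set.mem_univ k) hk
    exact hv1 (Subgroup.mem_bot.1 (h2 h1))
  obtain ⟨w, -, k, -, hU, m, -, hm⟩ := Cfsg.Agent.H224.SNX.exists_w R hv h0
  have key : ∀ {v : Y}, v ∈ RGD.Sup X (RGD.Pos cs h) → P v → v ∉ VJ cs h X {i} → ∃ g, g * v * g⁻¹ ∈ X (sr i) := by
    intro v hv hP hi
    refine good_run hT R H hij hjs (D := []) ⟨hv, hP, ?_, fun u hu => absurd hu (by simp)⟩ hr
    rwa [mem_VJ_single R hv, not_not] at hi
  have hc : ∀ {g v : Y}, (∃ g', g' * (g * v * g⁻¹) * g'⁻¹ ∈ X (sr i)) → ∃ g, g * v * g⁻¹ ∈ X (sr i) := by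
    rintro g v ⟨g', h1⟩
    refine ⟨g' * g, ?_⟩
    have e : g' * g * v * (g' * g)⁻¹ = g' * (g * v * g⁻¹) * g'⁻¹ := by group
    rw [e]; exact h1
  apply hc (g := k)
  have hPk := H.conj k hP
  rcases hall m with rfl | rfl | rfl | rfl
  · exact key hU hPk hm
  · obtain ⟨g, h1, h2⟩ := H.mv hU hPk hm
    exact hc (g := g) (key h1 (H.conj g hPk) h2)
  · exact absurd (H.short hU hPk).1 hm
  · exact absurd (H.short hU hPk).2 hm

end

end Cfsg.Agent.H347.SNX
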