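import Cfsg.Agent.H347.SNX.FFour
import Cfsg.Agent.H790.SNX.Comp
import Cfsg.Agent.H875.SNX.Eng
import Cfsg.Agent.H622.Levi.Cusp
import Cfsg.Agent.Nodes.CardSup
import Cfsg.Agent.LieClassical.FieldTransfer

/-!
# S3831, task T4a: automorphisms of order three of `²E₆(3)` (helper347)
-/

set_option autoImplicit false
set_option linter.unusedSectionVars false

namespace Cfsg.Agent.H347.SNX

open CoxeterSystem Cfsg.Agent.ChevalleyStructure.CoxeterGeom Cfsg.Agent.Tits.Roots Cfsg.Agent.Tits.Core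
  Cfsg.Agent.Tits.RootComb Cfsg.Agent.Tits.Exchange Cfsg.Agent.Nodes.Reps Cfsg.Agent.Nodes.BNOf
  Cfsg.Agent.Nodes.StabComb Cfsg.Agent.Nodes.Bruhat Cfsg.Agent.Nodes.OppDec Cfsg.Agent.Nodes.LeviDec
  Cfsg.Agent.Nodes.NormalForm Cfsg.Agent.KFacts.RgdOpp Cfsg.Agent.KFacts.RgdAut Cfsg.Agent.KFacts.RgdDiag
  Cfsg.Agent.KFacts.RgdRigid Cfsg.Agent.CpAut.RgdFix Cfsg.Agent.Nodes.Unique
open Cfsg Cfsg.Agent.H459.Rad Cfsg.Agent.H21.SN Cfsg.Agent.H65.Disp.Rgd Cfsg.Agent.H622.Levi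
open Cfsg.Agent.LieRecognition.BNCox (cA)
open Cfsg.Agent.H122.SNX
open Cfsg.Agent.H880.Six (PS2 Lr3)
open Matrix Cfsg.Lie Cfsg.Agent.ChevalleyStructure.CoxeterGeomTypes
open Cfsg.Agent.KFacts.RgdTI (LR)

/-- the row `PSL₂(9)` -/
def G3Nine : Prop := ∀ (F : Type) [Field F] [Fintype F], Fintype.card F = 9 →
  G3 (Matrix.ProjectiveSpecialLinearGroup (Fin 2) F)

section gen

variable {I W : Type*} [Fintype I] [DecidableEq I] [Group W] {Y : Type} [Group Y] {M : CoxeterMatrix I}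
  {cs : CoxeterSystem M W} {A : I → I → ℤ} {h : IsCartan M A} {T : Subgroup Y} {n : I → Y}
  {X : (I → ℤ) → Subgroup Y} (R : RGD cs h 3 T n X)

include R

/-- a representative of `s_k` in `M_k` -/
theorem exists_m (k : I) : ∃ m ∈ H53.HC.MJ cs h X {k}, Rp cs R.nsys (cs.simple k) m := by
  have hX : X (sr k) ≤ H53.HC.MJ cs h X {k} := RGD.le_Sup (PosJ_subset {k} (sr_mem_PosJ rfl))
  have hXn : X (-sr k) ≤ H53.HC.MJ cs h X {k} := by
    refine RGD.le_Sup ⟨(isRoot_sr cs h k).neg, fun l hl => ?_⟩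
    have hlk : l ≠ k := fun e => hl e
    rw [Pi.neg_apply, sr_ne hlk, neg_zero]
  obtain ⟨y, hy, hy1⟩ := exists_ne_one R k
  have h1 : n k * y * (n k)⁻¹ ∈ X (-sr k) := by
    have := R.conj_mem (rp_simple cs R.nsys k) (isRoot_sr cs h k) hy
    rwa [rep_simple_sr] at this
  have h2 : n k * y * (n k)⁻¹ ≠ 1 := by
    intro e
    apply hy1
    have : y = (n k)⁻¹ * (n k * y * (n k)⁻¹) * n k := by group
    rw [this, e]; group
  obtain ⟨a, ha, t, ht, b, hb, e⟩ := R.rk1 k _ h1 h2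
  refine ⟨t * n k, ?_, ?_⟩
  · have e2 : t * n k = a⁻¹ * (n k * y * (n k)⁻¹) * b⁻¹ := by rw [e]; group
    rw [e2]
    exact mul_mem (mul_mem (inv_mem (hX ha)) (hXn h1)) (inv_mem (hX hb))
  · have := (rp_of_mem (cs := cs) (hN := R.nsys) ht).mul (rp_simple cs R.nsys k)
    rwa [one_mul] at this

theorem mem_VJ_of_m [Finite W] {k : I} {m w : Y} (hm : Rp cs R.nsys (cs.simple k) m)
    (hw : w ∈ RGD.Sup X (RGD.Pos cs h)) (h1 : m⁻¹ * w * m ∈ RGD.B cs h T X) : w ∈ VJ cs h X {k} := by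
  have h2 := mem_PW_of_conj R hm hw h1
  refine RGD.Sup_mono ?_ h2
  rintro x ⟨h3, h4, h5⟩
  refine mem_notJ_single.2 ⟨⟨h3, h4⟩, ?_⟩
  rintro rfl
  rw [inv_simple, rep_simple_sr] at h5
  exact (isRoot_sr cs h k).not_pos_neg (sr_nonneg k) (neg_nonneg.1 h5)

/-- the automorphism is trivial on the line of a short node -/
theorem line [Finite W] [Finite Y] (hG : GG cs h T X = ⊤) (hp : G3Nine) {β : MulAut Y}
    (hU : Fix β (RGD.Sup X (RGD.Pos cs h))) (D : Diag T X β 1) {z : Y} (hz : z ∈ RGD.Sup X (RGD.Pos cs h))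
    (hx : (MulAut.conj z * β) ^ 3 = 1) (hP : PS 2 (MulAut.conj z * β)) (hR : RN (MulAut.conj z * β)) {k l : I}
    (hkl : M k l = 3) (hc : Nat.card (X (sr k)) = 9) {y : Y} (hy : y ∈ H53.HC.MJ cs h X {k}) :
    y⁻¹ * (MulAut.conj z * β) y ∈ RGD.B cs h T X := by
  have : Fact (Nat.Prime 3) := ⟨Nat.prime_three⟩
  obtain ⟨F, _, _, φ, C⟩ := exists_co_one R k l hkl
  have hF : Nat.card F = 9 := by rw [← hc]; exact (C.card (0 : Fin 1)).symm
  let e : Fin 1 ↪ I := ⟨fun _ => k, fun _ _ _ => Subsingleton.elim _ _⟩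
  have hr : Set.range e = {k} := by
    ext x
    constructor
    · rintro ⟨a, rfl⟩; rfl
    · rintro rfl
      exact ⟨0, rfl⟩
  have hS : IsSimpleGroup (Matrix.ProjectiveSpecialLinearGroup (Fin 2) F) :=
    Matrix.ProjectiveSpecialLinearGroup.rank_two_simple (by rw [hF]; decide)
  refine Cfsg.Agent.H790.SNX.EQ1a R hG hU D hx hP hR (J := {k}) (B_le_PJ (RGD.U_le_B hz)) (m := 1) le_rfl e ?_ ?_ ?_
    (F := F) (φ := φ) C hS (hp F (by rw [← Nat.card_eq_fintype_card]; exact hF)) (by rw [hr]; exact hy)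
  · intro a b
    rw [Subsingleton.elim b a]
    change M k k = cA 1 a a
    rw [M.diagonal, (cA 1).diagonal]
  · rw [hr]
  · rw [hr]
    rintro i hi j ⟨hj1, hj2⟩
    exact absurd hj1 hj2

/-- the coordinate of a short node vanishes -/
theorem short_of [Finite W] [Finite Y] (hG : GG cs h T X = ⊤) (hp : G3Nine) {v : Y}
    (hv : v ∈ RGD.Sup X (RGD.Pos cs h)) (hx : (MulAut.conj v) ^ 3 = 1) (hP : PS 2 (MulAut.conj v))
    (hR : RN (MulAut.conj v)) {k l : I} (hkl : M k l = 3) (hc : Nat.card (X (sr k)) = 9) : v ∈ VJ cs h X {k} := by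
  obtain ⟨m, hm, hrp⟩ := exists_m R k
  have h1 := line R hG hp (β := 1) (fun _ => Iff.rfl) Diag.one hv (by rwa [mul_one]) (by rwa [mul_one])
    (by rwa [mul_one]) hkl hc hm
  rw [mul_one, MulAut.conj_apply] at h1
  refine mem_VJ_of_m R hrp hv ?_
  have h2 := mul_mem h1 (RGD.U_le_B (T := T) hv)
  have h3 : m⁻¹ * (v * m * v⁻¹) * v = m⁻¹ * v * m := by group
  rwa [h3] at h2

/-- the frame automorphism is trivial on the root group of a short node -/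
theorem fix_of [Finite W] [Finite Y] (hG : GG cs h T X = ⊤) (hp : G3Nine) {β : MulAut Y}
    (hU : Fix β (RGD.Sup X (RGD.Pos cs h))) (D : Diag T X β 1) {z : Y} (hz : z ∈ RGD.Sup X (RGD.Pos cs h))
    (hx : (MulAut.conj z * β) ^ 3 = 1) (hP : PS 2 (MulAut.conj z * β)) (hR : RN (MulAut.conj z * β)) {k l : I}
    (hkl : M k l = 3) (hc : Nat.card (X (sr k)) = 9) {u : Y} (hu : u ∈ X (sr k)) : β u = u := by
  have : Fact (Nat.Prime 3) := ⟨Nat.prime_three⟩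
  obtain ⟨m, hm, hrp⟩ := exists_m R k
  have hX : X (sr k) ≤ H53.HC.MJ cs h X {k} := RGD.le_Sup (PosJ_subset {k} (sr_mem_PosJ rfl))
  have pk : sr k ∈ RGD.Pos cs h := ⟨isRoot_sr cs h k, sr_nonneg k⟩
  have hUn : ∀ {t w : Y}, t ∈ RGD.Sup X (RGD.Pos cs h) → (t * w * t⁻¹ ∈ VJ cs h X {k} ↔ w ∈ VJ cs h X {k}) :=
    fun ht => conj_mem_VJ R ht
  have h1 := line R hG hp hU D hz hx hP hR hkl hc hm
  have h2 := line R hG hp hU D hz hx hP hR hkl hc (mul_mem (hX hu) hm)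
  generalize hα : MulAut.conj z * β = α at *
  -- `m⁻¹ u⁻¹ α(u) m ∈ B`
  have hβu : β u ∈ X (sr k) := by
    have := (D.pos k u).2 hu
    simpa using this
  have hαu : α u = z * β u * z⁻¹ := by rw [← hα, MulAut.mul_apply, MulAut.conj_apply]
  have hw : u⁻¹ * α u ∈ RGD.Sup X (RGD.Pos cs h) := by
    rw [hαu]
    exact mul_mem (inv_mem (RGD.le_Sup pk hu)) (mul_mem (mul_mem hz (RGD.le_Sup pk hβu)) (inv_mem hz))
  have h3 : m⁻¹ * (u⁻¹ * α u) * m ∈ RGD.B cs h T X := by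
    have h4 := mul_mem h2 (inv_mem h1)
    have h5 : (u * m)⁻¹ * α (u * m) * (m⁻¹ * α m)⁻¹ = m⁻¹ * (u⁻¹ * α u) * m := by
      rw [map_mul]; group
    rwa [h5] at h4
  have h4 := mem_VJ_of_m R hrp hw h3
  -- `z = u₀ v₀`
  have hSe : RGD.Pos cs h \ {sr k} = NotJ cs h {k} := by
    ext x
    exact ⟨fun hx => mem_notJ_single.2 ⟨hx.1, hx.2⟩, fun hx => ⟨(mem_notJ_single.1 hx).1, (mem_notJ_single.1 hx).2⟩⟩
  obtain ⟨u₀, hu₀, v₀, hv₀, rfl⟩ := (mem_peel R (fun _ h => h) closed_pos pk).1 hz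
  rw [hSe] at hv₀
  have hab : ∀ a ∈ X (sr k), ∀ b ∈ X (sr k), a * b = b * a := by
    intro a ha b hb
    have h5 := (IsPGroup.isMulCommutative_of_card_eq_prime_sq (p := 3) (G := X (sr k)) (by rw [hc]; norm_num)).is_comm.comm
      ⟨a, ha⟩ ⟨b, hb⟩
    exact congrArg Subtype.val h5
  have h5 : u⁻¹ * β u ∈ VJ cs h X {k} := by
    have hv0 : v₀ ∈ VJ cs h X {k} := hv₀
    have h6 : (β u)⁻¹ * v₀ * β u ∈ VJ cs h X {k} := by
      have := (hUn (t := (β u)⁻¹) (w := v₀) (inv_mem (RGD.le_Sup pk hβu))).2 hv0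
      rwa [inv_inv] at this
    have h7 : u₀ * ((β u)⁻¹ * v₀ * β u * v₀⁻¹) * u₀⁻¹ ∈ VJ cs h X {k} :=
      (hUn (RGD.le_Sup pk hu₀)).2 (mul_mem h6 (inv_mem hv0))
    have h8 : u⁻¹ * α u = (u⁻¹ * β u) * (u₀ * ((β u)⁻¹ * v₀ * β u * v₀⁻¹) * u₀⁻¹) := by
      rw [hαu]
      calc u⁻¹ * (u₀ * v₀ * β u * (u₀ * v₀)⁻¹) = u⁻¹ * (u₀ * β u) * ((β u)⁻¹ * v₀ * β u * v₀⁻¹) * u₀⁻¹ := by group
        _ = u⁻¹ * (β u * u₀) * ((β u)⁻¹ * v₀ * β u * v₀⁻¹) * u₀⁻¹ := by rw [hab u₀ hu₀ _ hβu]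
        _ = _ := by group
    rw [h8] at h4
    exact (Subgroup.mul_mem_cancel_right _ h7).1 h4
  have h6 := eq_one_of_mem_VJ R (mul_mem (inv_mem hu) hβu) h5
  exact (inv_mul_eq_one.1 h6).symm

end gen

/-- the class of the elements of `U` -/
def PT {Y : Type} [Group Y] (v : Y) : Prop := (MulAut.conj v) ^ 3 = 1 ∧ PS 2 (MulAut.conj v) ∧ RN (MulAut.conj v)

theorem PT.conj {Y : Type} [Group Y] [Finite Y] {v : Y} (hv : PT v) (g : Y) : PT (g * v * g⁻¹) := by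
  have e : MulAut.conj (g * v * g⁻¹) = (MulAut.conj g⁻¹)⁻¹ * MulAut.conj v * MulAut.conj g⁻¹ := by
    rw [map_mul, map_mul, map_inv, inv_inv]
  unfold PT
  rw [e]
  exact ⟨H875.SNX.cube_cj hv.1 _, H875.SNX.PS.cj hv.2.1 _, H875.SNX.RN.cj hv.2.2 _⟩

section

variable {Y : Type} [Group Y] {T : Subgroup Y}

/-- **T4a** `²E₆(3)` -/
theorem lr3_twE6_of (hp : G3Nine) [Finite Y] [IsSimpleGroup Y] {h : IsCartan CoxeterMatrix.F₄ Nodes.RGDTwE6.A}
    {n : Fin 4 → Y} {X : (Fin 4 → ℤ) → Subgroup Y} (R : RGD CoxeterMatrix.F₄.toCoxeterSystem h 3 T n X)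
    (hG : GG CoxeterMatrix.F₄.toCoxeterSystem h T X = ⊤) (hc : ∀ i : Fin 4, i.val < 2 → Nat.card (X (sr i)) = 3)
    (hc' : ∀ i : Fin 4, 2 ≤ i.val → Nat.card (X (sr i)) = 9) (hLR : LR R (sr 0)) : Lr3 X 0 := by
  have hW := Nodes.RGDFold.finite_W (hp := Nodes.RGDTwE6.hp) CoxeterMatrix.F₄.toCoxeterSystem Nodes.RGDTwE6.isCartan
    Nodes.RGDTwE6.foldData
  have : Fact (Nat.Prime 3) := ⟨Nat.prime_three⟩
  have c0 : Nat.card (X (sr 0)) = 3 := hc 0 (by decide)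
  have c1 : Nat.card (X (sr 1)) = 3 := hc 1 (by decide)
  have c2 : Nat.card (X (sr 2)) = 9 := hc' 2 (by decide)
  have c3 : Nat.card (X (sr 3)) = 9 := hc' 3 (by decide)
  have hG1 := H224.SNX.sup_eq_top R hG
  intro x hx hP hR
  have hx3 : x ^ 3 = 1 := by rw [← hx]; exact pow_orderOf_eq_one x
  obtain ⟨g, hg⟩ := H224.SNX.exists_fix R hG (x := x) (m := 1) (by rw [pow_one]; exact hx3)
  obtain ⟨u, hu, hU, hUN, hpow, σ, D⟩ := exists_frame_pow R hG hg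
  have h3 : ((MulAut.conj g)⁻¹ * x * MulAut.conj g) ^ 3 = 1 := H875.SNX.cube_cj hx3 g
  have hP1 := H875.SNX.PS.cj hP g
  have hR1 := H875.SNX.RN.cj hR g
  obtain ⟨β, hβ⟩ : ∃ β, β = MulAut.conj u * ((MulAut.conj g)⁻¹ * x * MulAut.conj g) := ⟨_, rfl⟩
  have hβ3 := hpow 3 h3
  rw [← hβ] at hβ3 D hU
  have hσ3 : σ ^ 3 = 1 := by
    ext i
    obtain ⟨y, hy, hy1⟩ := exists_ne_one R i
    exact congrArg Fin.val (Diag.apply_eq R (D.pow 3) hy hy1 (by rw [hβ3]; rfl))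
  have hσ := H65.Disp.Chev.ty_F4.sym σ (fun i j => D.matrix (R := R) i j) hσ3
  subst hσ
  have hx1 : (MulAut.conj g)⁻¹ * x * MulAut.conj g = MulAut.conj u⁻¹ * β := by
    rw [hβ, map_inv, inv_mul_cancel_left]
  rw [hx1] at h3 hP1 hR1
  have hβ1 : β = 1 := by
    refine Diag.eq_one R hG1 D fun i y hy => ?_
    have hM1 : CoxeterMatrix.F₄.M 2 3 = 3 := by decide +kernel
    have hM2 : CoxeterMatrix.F₄.M 3 2 = 3 := by decide +kernel
    have hi : i = 0 ∨ i = 1 ∨ i = 2 ∨ i = 3 := by omega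
    rcases hi with rfl | rfl | rfl | rfl
    · exact H224.SNX.fix_of_card_three hβ3 c0 (fun z hz => (D.pos 0 z).2 hz) hy
    · exact H224.SNX.fix_of_card_three hβ3 c1 (fun z hz => (D.pos 1 z).2 hz) hy
    · exact fix_of R hG hp hU D (inv_mem hu) h3 hP1 hR1 hM1 c2 hy
    · exact fix_of R hG hp hU D (inv_mem hu) h3 hP1 hR1 hM2 c3 hy
  rw [hβ1, mul_one] at hx1 h3 hP1 hR1
  have hu' : u⁻¹ ∈ RGD.Sup X (RGD.Pos CoxeterMatrix.F₄.toCoxeterSystem h) := inv_mem hu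
  generalize u⁻¹ = v at *
  have hv1 : v ≠ 1 := by
    rintro rfl
    have h4 : x = MulAut.conj g * ((MulAut.conj g)⁻¹ * x * MulAut.conj g) * (MulAut.conj g)⁻¹ := by group
    rw [hx1, map_one, mul_one, mul_inv_cancel] at h4
    rw [h4, orderOf_one] at hx
    omega
  have B : IsB2 Nodes.RGDTwE6.A 1 2 := ⟨by decide, by decide +kernel, by decide +kernel, by decide +kernel,
    by decide +kernel⟩
  have L : LR R (sr 1) := by
    have h1 := hLR.act (CoxeterMatrix.F₄.toCoxeterSystem.wordProd [0, 1])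
    rwa [← tf_eL, rep_act tab_Tw, show act AlTw [0, 1] (eL 0) = eL 1 by decide +kernel, tf_eL] at h1
  have hs : ∀ {v : Y}, v ∈ RGD.Sup X (RGD.Pos CoxeterMatrix.F₄.toCoxeterSystem h) → PT v →
      v ∈ VJ CoxeterMatrix.F₄.toCoxeterSystem h X {2} := fun hv hP =>
    short_of R hG hp hv hP.1 hP.2.1 hP.2.2 (k := 2) (l := 3) (by decide +kernel) c2
  have hs' : ∀ {v : Y}, v ∈ RGD.Sup X (RGD.Pos CoxeterMatrix.F₄.toCoxeterSystem h) → PT v →
      v ∈ VJ CoxeterMatrix.F₄.toCoxeterSystem h X {3} := fun hv hP =>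
    short_of R hG hp hv hP.1 hP.2.1 hP.2.2 (k := 3) (l := 2) (by decide +kernel) c3
  have cb : 3 < Nat.card (X (rt 1 2 0 1)) := by rw [rt_zero_one, c2]; decide
  have cd : Nat.card (X (rt 1 2 1 2)) = 3 := by
    have e : rt (1 : Fin 4) 2 1 2 = rep CoxeterMatrix.F₄.toCoxeterSystem h
        (CoxeterMatrix.F₄.toCoxeterSystem.simple 2) (sr 1) := by
      rw [← rt_one_zero (j := (1 : Fin 4)) (s := 2), rep_s B, mul_one, sub_zero]
    rw [e, Nodes.CardSup.card_X_rep R _ (isRoot_sr _ h 1)]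
    exact c1
  have H : Hyp R PT 0 1 2 3 := by
    refine ⟨fun g hv => hv.conj g, fun hv hP => ⟨hs hv hP, hs' hv hP⟩,
      fun hv hP => (two_mv R (by decide +kernel) c0 c1 hv (ps2_of_ps hP.2.1)).1,
      fun hv hP => (two_mv R (by decide +kernel) c0 c1 hv (ps2_of_ps hP.2.1)).2,
      b2_of_card B L (fun g hv => hv.conj g) hs cb cd⟩
  obtain ⟨g', h1⟩ := engine tab_Tw R H (by decide +kernel) (by decide) (by decide) run_Tw hu' ⟨h3, hP1, hR1⟩ hv1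
  refine ⟨g * g'⁻¹, _, h1, ?_⟩
  have h4 : x = MulAut.conj g * ((MulAut.conj g)⁻¹ * x * MulAut.conj g) * (MulAut.conj g)⁻¹ := by group
  rw [h4, hx1, ← map_mul, ← map_inv, ← map_mul]
  congr 1
  group

/-- **T4a** `²E₆(3)`, from the row `PSL₂(9)` -/
theorem lr3_twE6 (hp : G3 (Matrix.ProjectiveSpecialLinearGroup (Fin 2) (GaloisField 3 2))) [Finite Y] [IsSimpleGroup Y]
    {h : IsCartan CoxeterMatrix.F₄ Nodes.RGDTwE6.A} {n : Fin 4 → Y} {X : (Fin 4 → ℤ) → Subgroup Y}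
    (R : RGD CoxeterMatrix.F₄.toCoxeterSystem h 3 T n X) (hG : GG CoxeterMatrix.F₄.toCoxeterSystem h T X = ⊤)
    (hc : ∀ i : Fin 4, i.val < 2 → Nat.card (X (sr i)) = 3) (hc' : ∀ i : Fin 4, 2 ≤ i.val → Nat.card (X (sr i)) = 9)
    (hLR : LR R (sr 0)) : Lr3 X 0 := by
  refine lr3_twE6_of (fun F _ _ hF => ?_) R hG hc hc' hLR
  have : Fintype (GaloisField 3 2) := Fintype.ofFinite _
  have h1 : Fintype.card F = Fintype.card (GaloisField 3 2) := by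
    rw [hF, ← Nat.card_eq_fintype_card, GaloisField.card 3 2 (by decide)]; norm_num
  exact hp.congr (LieClassical.FieldTransfer.pslCongr (FiniteField.ringEquivOfCardEq (K := F) (K' := GaloisField 3 2) h1))

end

end Cfsg.Agent.H347.SNX
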